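import Cfsg.Agent.H3.VecModel

/-! Generated permutation table, new letters and stabiliser chain. -/

set_option autoImplicit false
set_option maxRecDepth 100000

open Cfsg.Agent.L0

namespace Cfsg.Agent.H3.O8

noncomputable def Trowt0 : BT := .node (.leaf (nat_lit 0x7ee9fbfd94dfbf7effa2f7efdfba70f5e59daf5dd0a93d98b7ae5ebc7cf742b16fa63da691f3b74edef2a95ed9872f1f4b5a5dd3c78e78ba8e8ddbdc52a95a76fb0be7ee65464241e3d77066b97331cbb755a1b974e9f45c0e483ca0e1f389ce0d8171222388609c426edd4b7479dbb76edd8526eddbb66c49b0c6d5db366c61b696cd97ab60d513560bdab51cd7bb06ad1a3460c687368d15134fd1a345acc9ad2cf95ab587c7edb0b93b24ac992064c992f640993264a98ac628c9c8d6c58a1692b63162a983554de3f76ac1a233cd57b06abc22f48fd7b054bc8d35ed592b5cb972eddd99a95cb916556b59aa5a7d6bcd4b57335b6f22d52958a65241626509ce8659813335cd4cab5692c2e4cad5bd66cd2b05a19a2182a9532601ce2a54bd4266e754a9cc9d6ac52a69255ca53894a5f1284ca0d8a9ca16284ea129e16d12a566702509ea562652b1326bf816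254c9902c50ad6324e6d2cc9ea55a84b113a74c88e0b4845ea4468522f56911204275121616b8a246c5bbb44911a4428d10e5c8d22244d777146891a220c43cd428502354e90a1488102040093204091032be810213e7c7333f50f9f3ab4fd13e7cf1c3678e1e6078f1f4e7a39e3c74da33ab0e9d3a70f293a74e9b3e792024e0d5403670f00826ce9c3a780a8370ce1d3694db88070d99186889ae3b8995246bb5a3224d155638c99da68c853264993322cc1716d8a972e6018cd4f08182004c171591e102e5d4723060b960a58b0f9f40b102ccf9cc2c2c9992a4caeab6544872a6249534085941250a1428201142850a122a199876960c99265588bda6898e1ad8d12b848394224b4920a202801a497ec903839a49a068d045c8212018839302c82c20e8b961e3c78f67ae50f0c3cb0d8a3c2120e7c2b51d7468e32887512238692223468f224428d1bae40e0210d0a086060a1430036192c30c3051203084df0b2c613d87a2c8060830528bd2c30a145c40c18284895008489c624d1412267092a0440810205080448408bc200940e38295551a105044d0830a4888a26a832c030c6040c42041143c8960e642850e4808e0a161071a3052f009c259083c60b094c206060c198001c183062ce46060c1940470a3204e00911280101101c41736040c004206810219c020a00880187000000002030000000))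 (.leaf (nat_lit 0xefaa3f4e3ddaf7efc2ef761dfbf6ebbb47635972e6d3db8aeb1aac76eb97af5eb93ad7ebd7aeaebc234ce0ffa34e7d3bece9cf3f4cfc2873d65ba67e7cf6cf69d39f2e4f395e2fcb967e53b272e5c38f177b2ef645c78dcee691f1e3d39f0ef73870e1cba49e1c3867d7bf7efb5bf7ecb9bf3efdfaef6ea7db76e456ad5bddb971adb8e6c7db6f9b327bb6d1d6f8cdadb73645b9d3431d7b38bf23af7ecdf4a56bda3766fd7af98f63b35e5ef6ec6a3193af68da8aadc99b467afdb4926d5f4e8d372bc6d3a6bc8d34c8e8d157b3dd9a3446e7a73e7df4b3f4e19ed37cfcf960cd4b066cd4a96aab9b3299fdb55eb55f0e55d62975a997b76c992c49c98b92dd5972562fabad2bf12763c78e75fdd8f1e3133adcc858a6569d8b1618791462c4ee861c366a61c331dcbcb870d0c59ae5faae702cc13f343c09b058c71705fbe82fce9b7efa6bf8e25ecb2ef4e117af6fbdc855ebd7215da327bdda346ec2e374748bbb305ce3274dcb97b6702572e6fb56f551b6b64cdc7b6dbc2b2775bb5966e7766b6c991bd1eedd3a0d9a72e7d9a71e5617d6425387d72588d405b3ed8354a26af2cf8da34f5975f4c6af95e576da6bc5955a2e4ad5ab54738ab56ad1ead5ab9a2d5ab563609956ad5d1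2a7547d968d48b1de613f52556a7bacd37abc2598b4f43fb31e0cfd79a93b6ea67e4a51f3e6cd96450bbb689f1d228dba352edda3868f38f293ccc2e60d8685a63ea53e24f7dcd3e6b13ec964b4b044a98e27250271da717b163bf276cb9b226ba9b2625a9a866dbbf8a6748756216a0eb1454b430bd8f36f61792c6439766bcb15065d4adaddd86316a43754240f8b664c3c90b8492b6e75db926dcdb546468b52250dbb0a6c862468b897b7bc1a47a3d3ad41db08f66a57e90b541071b4e8b0e83c6af56b5fd8e66451f2a0d6ab16554a73b1cf71112c4897e744991224d87260e2c0e20c1b331c9b0d2e55dc51aec28416138930a1078522cc18741d1c0d2e9c78caa1c38b02040810031b81020400272040))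

noncomputable def Trowtree : BT := Trowt0

noncomputable def Trow : ℕ → ℕ := rowOf Trowtree (nat_lit 6) (nat_lit 63) (nat_lit 105) (nat_lit 0x1ffffffffffffffffffffffffff)

noncomputable def T : ℕ → ℕ → ℕ := pT Trow (nat_lit 7) (nat_lit 127)

/-- definitions of the new letters -/
def D : List (List ℕ) := [[nat_lit 0, nat_lit 6],
  [nat_lit 1, nat_lit 7],
  [nat_lit 2, nat_lit 8],
  [nat_lit 3, nat_lit 9],
  [nat_lit 4, nat_lit 10],
  [nat_lit 5, nat_lit 11],
  [nat_lit 3, nat_lit 2, nat_lit 9, nat_lit 2, nat_lit 12],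
  [nat_lit 4, nat_lit 5, nat_lit 12, nat_lit 11, nat_lit 10, nat_lit 13],
  [nat_lit 6, nat_lit 7, nat_lit 13, nat_lit 6, nat_lit 13, nat_lit 1, nat_lit 13, nat_lit 0, nat_lit 14]]

/-- the relators -/
def R : List (List ℕ) := [[nat_lit 0, nat_lit 6],
  [nat_lit 1, nat_lit 7],
  [nat_lit 2, nat_lit 8],
  [nat_lit 3, nat_lit 9],
  [nat_lit 4, nat_lit 10],
  [nat_lit 5, nat_lit 11],
  [nat_lit 6, nat_lit 0],
  [nat_lit 7, nat_lit 1],
  [nat_lit 8, nat_lit 2],
  [nat_lit 9, nat_lit 3],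
  [nat_lit 10, nat_lit 4],
  [nat_lit 11, nat_lit 5],
  [nat_lit 12, nat_lit 12],
  [nat_lit 13, nat_lit 13],
  [nat_lit 14, nat_lit 14],
  [nat_lit 3, nat_lit 2, nat_lit 9, nat_lit 2, nat_lit 12],
  [nat_lit 4, nat_lit 5, nat_lit 12, nat_lit 11, nat_lit 10, nat_lit 13],
  [nat_lit 6, nat_lit 7, nat_lit 13, nat_lit 6, nat_lit 13, nat_lit 1, nat_lit 13, nat_lit 0, nat_lit 14],
  [nat_lit 1, nat_lit 1, nat_lit 1],
  [nat_lit 14, nat_lit 1, nat_lit 14, nat_lit 1, nat_lit 14, nat_lit 1],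
  [nat_lit 13, nat_lit 1, nat_lit 14, nat_lit 7, nat_lit 13, nat_lit 1, nat_lit 14, nat_lit 7],
  [nat_lit 13, nat_lit 14, nat_lit 1, nat_lit 13, nat_lit 1, nat_lit 13, nat_lit 1, nat_lit 14],
  [nat_lit 0, nat_lit 0, nat_lit 0],
  [nat_lit 0, nat_lit 1, nat_lit 6, nat_lit 1, nat_lit 14],
  [nat_lit 6, nat_lit 7, nat_lit 14, nat_lit 6, nat_lit 7, nat_lit 14],
  [nat_lit 5, nat_lit 5, nat_lit 5],
  [nat_lit 5, nat_lit 14, nat_lit 5, nat_lit 14],
  [nat_lit 11, nat_lit 1, nat_lit 6, nat_lit 11, nat_lit 0, nat_lit 14],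
  [nat_lit 11, nat_lit 13, nat_lit 5, nat_lit 13, nat_lit 7, nat_lit 13, nat_lit 1],
  [nat_lit 4, nat_lit 4, nat_lit 4],
  [nat_lit 4, nat_lit 0, nat_lit 10, nat_lit 6],
  [nat_lit 4, nat_lit 14, nat_lit 5, nat_lit 10, nat_lit 11, nat_lit 14],
  [nat_lit 1, nat_lit 12, nat_lit 1, nat_lit 12, nat_lit 1, nat_lit 12],
  [nat_lit 4, nat_lit 1, nat_lit 5, nat_lit 7, nat_lit 10, nat_lit 11, nat_lit 1, nat_lit 14],
  [nat_lit 12, nat_lit 1, nat_lit 5, nat_lit 14, nat_lit 12, nat_lit 1, nat_lit 5, nat_lit 14],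
  [nat_lit 12, nat_lit 6, nat_lit 1, nat_lit 0, nat_lit 12, nat_lit 14, nat_lit 6, nat_lit 14],
  [nat_lit 0, nat_lit 12, nat_lit 4, nat_lit 14, nat_lit 13, nat_lit 1, nat_lit 10, nat_lit 12],
  [nat_lit 1, nat_lit 12, nat_lit 7, nat_lit 4, nat_lit 1, nat_lit 12, nat_lit 7, nat_lit 10],
  [nat_lit 1, nat_lit 12, nat_lit 7, nat_lit 14, nat_lit 1, nat_lit 12, nat_lit 7, nat_lit 14],
  [nat_lit 1, nat_lit 14, nat_lit 12, nat_lit 13, nat_lit 1, nat_lit 14, nat_lit 12, nat_lit 13],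
  [nat_lit 1, nat_lit 4, nat_lit 7, nat_lit 4, nat_lit 1, nat_lit 4, nat_lit 7, nat_lit 4],
  [nat_lit 2, nat_lit 7, nat_lit 2, nat_lit 7],
  [nat_lit 3, nat_lit 5, nat_lit 9, nat_lit 11],
  [nat_lit 8, nat_lit 4, nat_lit 2, nat_lit 1, nat_lit 10, nat_lit 7],
  [nat_lit 2, nat_lit 5, nat_lit 2, nat_lit 11, nat_lit 8, nat_lit 11],
  [nat_lit 0, nat_lit 3, nat_lit 0, nat_lit 9, nat_lit 6, nat_lit 9],
  [nat_lit 1, nat_lit 3, nat_lit 1, nat_lit 9, nat_lit 7, nat_lit 9],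
  [nat_lit 2, nat_lit 5, nat_lit 1, nat_lit 11, nat_lit 8, nat_lit 7, nat_lit 14],
  [nat_lit 0, nat_lit 5, nat_lit 6, nat_lit 3, nat_lit 13, nat_lit 5, nat_lit 13, nat_lit 9],
  [nat_lit 0, nat_lit 3, nat_lit 5, nat_lit 9, nat_lit 14, nat_lit 1, nat_lit 6, nat_lit 11],
  [nat_lit 0, nat_lit 13, nat_lit 2, nat_lit 3, nat_lit 13, nat_lit 8, nat_lit 3, nat_lit 4, nat_lit 7, nat_lit 4, nat_lit 11]]

/-- the base -/
def B : List ℕ := [nat_lit 64, nat_lit 54, nat_lit 3, nat_lit 31, nat_lit 56, nat_lit 30, nat_lit 27]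

/-- the base known in advance -/
def Bf : List ℕ := [nat_lit 92, nat_lit 0, nat_lit 1, nat_lit 2, nat_lit 3, nat_lit 4, nat_lit 5, nat_lit 8, nat_lit 27]

noncomputable def dchkf : ℕ → Bool := defChk T (nat_lit 120) D

noncomputable def info6t0 : BT := .leaf (nat_lit 0x2c)

noncomputable def info6tree : BT := info6t0

noncomputable def info6 : ℕ → ℕ := rowOf info6tree (nat_lit 3) (nat_lit 7) (nat_lit 2) (nat_lit 0x3)

def S6 : List (List ℕ) := [[nat_lit 1],
  [nat_lit 7]]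

noncomputable def lev6f : ℕ → Bool := RAct.levI T S6 info6 (nat_lit 1) (nat_lit 1) (nat_lit 27) (nat_lit 3) (nat_lit 27)

noncomputable def info5t0 : BT := .leaf (nat_lit 0x968)

noncomputable def info5tree : BT := info5t0

noncomputable def info5 : ℕ → ℕ := rowOf info5tree (nat_lit 3) (nat_lit 7) (nat_lit 4) (nat_lit 0xf)

def S5 : List (List ℕ) := [[nat_lit 1],
  [nat_lit 7],
  [nat_lit 14]]

noncomputable def lev5f : ℕ → Bool := RAct.levI T S5 info5 (nat_lit 3) (nat_lit 2) (nat_lit 27) (nat_lit 4) (nat_lit 30)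

noncomputable def info4t0 : BT := .leaf (nat_lit 0xe69e8be0)

noncomputable def info4tree : BT := info4t0

noncomputable def info4 : ℕ → ℕ := rowOf info4tree (nat_lit 3) (nat_lit 7) (nat_lit 4) (nat_lit 0xf)

def S4 : List (List ℕ) := [[nat_lit 1],
  [nat_lit 7],
  [nat_lit 13],
  [nat_lit 14]]

noncomputable def lev4f : ℕ → Bool := RAct.levI T S4 info4 (nat_lit 3) (nat_lit 2) (nat_lit 56) (nat_lit 8) (nat_lit 56)

noncomputable def info3t0 : BT := .leaf (nat_lit 0x71465d880288554)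

noncomputable def info3tree : BT := info3t0

noncomputable def info3 : ℕ → ℕ := rowOf info3tree (nat_lit 4) (nat_lit 15) (nat_lit 6) (nat_lit 0x3f)

def S3 : List (List ℕ) := [[nat_lit 0],
  [nat_lit 1],
  [nat_lit 6],
  [nat_lit 7],
  [nat_lit 13],
  [nat_lit 14]]

noncomputable def lev3f : ℕ → Bool := RAct.levI T S3 info3 (nat_lit 7) (nat_lit 3) (nat_lit 27) (nat_lit 10) (nat_lit 31)

noncomputable def info2t0 : BT := .leaf (nat_lit 0x2288a4508d6b5b9d3ee58ee3716989367b501d7ae)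

noncomputable def info2tree : BT := info2t0

noncomputable def info2 : ℕ → ℕ := rowOf info2tree (nat_lit 5) (nat_lit 31) (nat_lit 6) (nat_lit 0x3f)

def S2 : List (List ℕ) := [[nat_lit 0],
  [nat_lit 1],
  [nat_lit 5],
  [nat_lit 6],
  [nat_lit 7],
  [nat_lit 11],
  [nat_lit 13],
  [nat_lit 14]]

noncomputable def lev2f : ℕ → Bool := RAct.levI T S2 info2 (nat_lit 7) (nat_lit 3) (nat_lit 0) (nat_lit 27) (nat_lit 3)

noncomputable def info1t0 : BT := .leaf (nat_lit 0xb0019438d024c771564b690e21b66d165388ed9c40711e3b682a5a9642d182072613a568a94924685a2442952a34ec5ca7)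

noncomputable def info1tree : BT := info1t0

noncomputable def info1 : ℕ → ℕ := rowOf info1tree (nat_lit 6) (nat_lit 63) (nat_lit 7) (nat_lit 0x7f)

def S1 : List (List ℕ) := [[nat_lit 0],
  [nat_lit 1],
  [nat_lit 4],
  [nat_lit 5],
  [nat_lit 6],
  [nat_lit 7],
  [nat_lit 10],
  [nat_lit 11],
  [nat_lit 12],
  [nat_lit 13],
  [nat_lit 14]]

noncomputable def lev1f : ℕ → Bool := RAct.levI T S1 info1 (nat_lit 15) (nat_lit 4) (nat_lit 0) (nat_lit 56) (nat_lit 54)

noncomputable def info0t0 : BT := .leaf (nat_lit 0x99263cd98e61468335c4c73160c0810a6b384d62b49ae62c3930df338f2e54361224b570d66b362d9eb076e9b3b46e148092f59b292d1d2898ea43560c1eb36d19ea4728dda54ad95ad7adda3a6cad39824f5ab55af5db55ac5eaa4ced021769dda1744d32048b0caa)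

noncomputable def info0tree : BT := info0t0

noncomputable def info0 : ℕ → ℕ := rowOf info0tree (nat_lit 7) (nat_lit 127) (nat_lit 7) (nat_lit 0x7f)

def S0 : List (List ℕ) := [[nat_lit 0],
  [nat_lit 1],
  [nat_lit 2],
  [nat_lit 3],
  [nat_lit 4],
  [nat_lit 5],
  [nat_lit 6],
  [nat_lit 7],
  [nat_lit 8],
  [nat_lit 9],
  [nat_lit 10],
  [nat_lit 11],
  [nat_lit 12],
  [nat_lit 13],
  [nat_lit 14]]

noncomputable def lev0f : ℕ → Bool := RAct.levI T S0 info0 (nat_lit 15) (nat_lit 4) (nat_lit 0) (nat_lit 120) (nat_lit 64)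

theorem dchkb0 : allR dchkf 7 0 = true := by decide +kernel
theorem lev6b0 : allR lev6f 2 0 = true := by decide +kernel
theorem lev5b0 : allR lev5f 2 0 = true := by decide +kernel
theorem lev4b0 : allR lev4f 3 0 = true := by decide +kernel
theorem lev3b0 : allR lev3f 4 0 = true := by decide +kernel
theorem lev2b0 : allR lev2f 5 0 = true := by decide +kernel
theorem lev1b0 : allR lev1f 6 0 = true := by decide +kernel
theorem lev0b0 : allR lev0f 7 0 = true := by decide +kernel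

theorem dchk : ∀ c < 120, dchkf c = true := fun c hc =>
  allR_glue (d := 7) (n := 1) (forall_lt_succ' forall_lt_zero' dchkb0) c (lt_of_lt_of_le hc (by norm_num))

theorem lev6 : ∀ c < 3, lev6f c = true := fun c hc =>
  allR_glue (d := 2) (n := 1) (forall_lt_succ' forall_lt_zero' lev6b0) c (lt_of_lt_of_le hc (by norm_num))

theorem lev5 : ∀ c < 4, lev5f c = true := fun c hc =>
  allR_glue (d := 2) (n := 1) (forall_lt_succ' forall_lt_zero' lev5b0) c (lt_of_lt_of_le hc (by norm_num))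

theorem lev4 : ∀ c < 8, lev4f c = true := fun c hc =>
  allR_glue (d := 3) (n := 1) (forall_lt_succ' forall_lt_zero' lev4b0) c (lt_of_lt_of_le hc (by norm_num))

theorem lev3 : ∀ c < 10, lev3f c = true := fun c hc =>
  allR_glue (d := 4) (n := 1) (forall_lt_succ' forall_lt_zero' lev3b0) c (lt_of_lt_of_le hc (by norm_num))

theorem lev2 : ∀ c < 27, lev2f c = true := fun c hc =>
  allR_glue (d := 5) (n := 1) (forall_lt_succ' forall_lt_zero' lev2b0) c (lt_of_lt_of_le hc (by norm_num))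

theorem lev1 : ∀ c < 56, lev1f c = true := fun c hc =>
  allR_glue (d := 6) (n := 1) (forall_lt_succ' forall_lt_zero' lev1b0) c (lt_of_lt_of_le hc (by norm_num))

theorem lev0 : ∀ c < 120, lev0f c = true := fun c hc =>
  allR_glue (d := 7) (n := 1) (forall_lt_succ' forall_lt_zero' lev0b0) c (lt_of_lt_of_le hc (by norm_num))

theorem ext {G : Type*} [Group G] {A : RAct G 120} {g : ℕ → G} (h : A.Tab g 6 T) :
    ∃ g' : ℕ → G, (∀ i < 6, g' i = g i) ∧ A.Tab g' 15 T ∧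
      genL g' (List.range 15) = genL g (List.range 6) :=
  tab_extend' h (D := D) (by decide +kernel) (by decide +kernel) le_rfl dchk

/-- the levels -/
def L : List (ℕ × ℕ × ℕ) := [(nat_lit 64, nat_lit 0, nat_lit 120), (nat_lit 54, nat_lit 0, nat_lit 56), (nat_lit 3, nat_lit 0, nat_lit 27), (nat_lit 31, nat_lit 27, nat_lit 10), (nat_lit 56, nat_lit 56, nat_lit 8), (nat_lit 30, nat_lit 27, nat_lit 4), (nat_lit 27, nat_lit 27, nat_lit 3)]

theorem chain {G : Type*} [Group G] {A : RAct G 120} {x : ℕ → G} (h : A.Tab x 15 T) :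
    A.Chain ⊤ [] (ivl L) :=
  chain_cons h (by decide +kernel) lev0
    (chain_cons h (by decide +kernel) lev1
    (chain_cons h (by decide +kernel) lev2
    (chain_cons h (by decide +kernel) lev3
    (chain_cons h (by decide +kernel) lev4
    (chain_cons h (by decide +kernel) lev5
    (chain_cons h (by decide +kernel) lev6
    (chain_nil)))))))

end Cfsg.Agent.H3.O8
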