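import Cfsg.Agent.L0.PcCert
import Cfsg.Agent.L0.Dw
import Cfsg.Agent.H3.Mu.O8.Tab

/-! Generated certificate: the `3`-part of a Schur multiplier. -/

set_option autoImplicit false
set_option maxRecDepth 100000

open Cfsg.Agent.L0

namespace Cfsg.Agent.H3.O8.P3

noncomputable def W : List (List ℕ) := [
  dw (nat_lit 4) (nat_lit 15) (nat_lit 5) (nat_lit 0x9136),
  dw (nat_lit 4) (nat_lit 15) (nat_lit 9) (nat_lit 0xc151d3e3),
  dw (nat_lit 4) (nat_lit 15) (nat_lit 8) (nat_lit 0x4c37e5a2),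
  dw (nat_lit 4) (nat_lit 15) (nat_lit 7) (nat_lit 0x7d832d1),
  dw (nat_lit 4) (nat_lit 15) (nat_lit 7) (nat_lit 0x58d41d1),
  dw (nat_lit 4) (nat_lit 15) (nat_lit 7) (nat_lit 0x907b813),
  dw (nat_lit 4) (nat_lit 15) (nat_lit 9) (nat_lit 0x8d6a501a2),
  dw (nat_lit 4) (nat_lit 15) (nat_lit 10) (nat_lit 0xd2163dcb0)]

noncomputable def P : PcP := ⟨nat_lit 3, nat_lit 2, nat_lit 4, nat_lit 0x401004010000401004000190400618000, nat_lit 10, nat_lit 1023, nat_lit 13, nat_lit 8191, nat_lit 3, nat_lit 24, nat_lit 6, nat_lit 8⟩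

noncomputable def fu : Fus := ⟨[nat_lit 256, nat_lit 64, nat_lit 16, nat_lit 4, nat_lit 1, nat_lit 256, nat_lit 4, nat_lit 256, nat_lit 1],
  [nat_lit 272, nat_lit 405, nat_lit 32, nat_lit 4, nat_lit 1, nat_lit 544, nat_lit 8, nat_lit 4, nat_lit 1],
  [nat_lit 5, nat_lit 5, nat_lit 5, nat_lit 5, nat_lit 5, nat_lit 6, nat_lit 6, nat_lit 7, nat_lit 7]⟩

noncomputable def lam : List ℕ := [nat_lit 0x0,
  nat_lit 0x0,
  nat_lit 0x4000,
  nat_lit 0x4000000,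
  nat_lit 0x0]

noncomputable def bs : List ℕ := []

noncomputable def mo : List ℕ := []

noncomputable def cv0 : List ℕ := [nat_lit 0x1000000000000080000000000000000000000,
  nat_lit 0x4000000000000000000000000000000000000000000,
  nat_lit 0x100000000000000000000000000,
  nat_lit 0x1000000000000000000000000000000000000000,
  nat_lit 0x40000000000000000,
  nat_lit 0x1000000400000200000080000000000000000000,
  nat_lit 0x8000000000000000200000000000000000000000000000,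
  nat_lit 0x8000000000,
  nat_lit 0x4000000000000000100080040000000000000000000,
  nat_lit 0x100040000000000004004001001000000400100080000000000010000000000,
  nat_lit 0x20000000000000002001000400000100080040000000000000002000,
  nat_lit 0x80080000000000008002002001000800400100080040000010008004000001,
  nat_lit 0x200000000000000000000000000000,
  nat_lit 0x40000000000000001,
  nat_lit 0x2000000000800000000000000000000000000000000]

noncomputable def cc0 : List Con := [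
  ⟨nat_lit 1, nat_lit 1, nat_lit 1, [nat_lit 64], [], nthN cv0 (nat_lit 0)⟩,
  ⟨nat_lit 1, nat_lit 1, nat_lit 1, [nat_lit 4], [], nthN cv0 (nat_lit 1)⟩,
  ⟨nat_lit 0, nat_lit 0, nat_lit 1, [nat_lit 4], [], nthN cv0 (nat_lit 2)⟩,
  ⟨nat_lit 0, nat_lit 0, nat_lit 1, [nat_lit 1], [], nthN cv0 (nat_lit 3)⟩,
  ⟨nat_lit 1, nat_lit 0, nat_lit 0, [nat_lit 64], [], nthN cv0 (nat_lit 4)⟩,
  ⟨nat_lit 0, nat_lit 0, nat_lit 1, [nat_lit 16], [], nthN cv0 (nat_lit 5)⟩,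
  ⟨nat_lit 0, nat_lit 1, nat_lit 2, [nat_lit 16, nat_lit 16], [], nthN cv0 (nat_lit 6)⟩,
  ⟨nat_lit 2, nat_lit 5, nat_lit 0, [nat_lit 2, nat_lit 0], [nat_lit 0, nat_lit 2], nthN cv0 (nat_lit 7)⟩,
  ⟨nat_lit 2, nat_lit 5, nat_lit 0, [nat_lit 3, nat_lit 1], [nat_lit 1, nat_lit 3], nthN cv0 (nat_lit 8)⟩,
  ⟨nat_lit 2, nat_lit 5, nat_lit 0, [nat_lit 2, nat_lit 1], [nat_lit 1, nat_lit 2, nat_lit 3, nat_lit 3, nat_lit 4], nthN cv0 (nat_lit 9)⟩,
  ⟨nat_lit 2, nat_lit 5, nat_lit 0, [nat_lit 1, nat_lit 0], [nat_lit 0, nat_lit 1, nat_lit 2, nat_lit 2], nthN cv0 (nat_lit 10)⟩,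
  ⟨nat_lit 2, nat_lit 5, nat_lit 0, [nat_lit 1, nat_lit 1, nat_lit 1], [nat_lit 3, nat_lit 4, nat_lit 4], nthN cv0 (nat_lit 11)⟩,
  ⟨nat_lit 2, nat_lit 6, nat_lit 0, [nat_lit 6, nat_lit 6, nat_lit 6], [], nthN cv0 (nat_lit 12)⟩,
  ⟨nat_lit 2, nat_lit 6, nat_lit 0, [nat_lit 5, nat_lit 5, nat_lit 5], [], nthN cv0 (nat_lit 13)⟩,
  ⟨nat_lit 2, nat_lit 7, nat_lit 0, [nat_lit 8, nat_lit 7], [nat_lit 7, nat_lit 8], nthN cv0 (nat_lit 14)⟩]

theorem con0 : allL cc0 (P.conOk fu) = true := by decide +kernel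

noncomputable def CV : List (List ℕ) := [cv0]

noncomputable def MU : List (List ℕ) := [[nat_lit 0x30a7f7],
  [nat_lit 0,
  nat_lit 0],
  [nat_lit 0x1116,
  nat_lit 0x26742e,
  nat_lit 0x51],
  [nat_lit 0x48fcae,
  nat_lit 0x922c35,
  nat_lit 0x12,
  nat_lit 0x1037e2],
  [nat_lit 0x48fb7c,
  nat_lit 0x922c36,
  nat_lit 0x36,
  nat_lit 0x3,
  nat_lit 0x103abb]]

noncomputable def lv : List (List (List ℕ) × ℕ × List (ℕ × List ℕ)) := [
  ([[nat_lit 1], [nat_lit 2], [nat_lit 3], [nat_lit 4]], nat_lit 0, [(nat_lit 0, []), (nat_lit 1, [nat_lit 3, nat_lit 2, nat_lit 0, nat_lit 0]), (nat_lit 2, [nat_lit 1]), (nat_lit 3, [nat_lit 2, nat_lit 1, nat_lit 0, nat_lit 0]), (nat_lit 5, [nat_lit 0, nat_lit 1, nat_lit 1]), (nat_lit 6, [nat_lit 3, nat_lit 1]), (nat_lit 7, [nat_lit 3, nat_lit 2, nat_lit 1, nat_lit 0]), (nat_lit 8, [nat_lit 2, nat_lit 0, nat_lit 0]), (nat_lit 9, [nat_lit 1, nat_lit 0, nat_lit 1]),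 (nat_lit 10, [nat_lit 3, nat_lit 3, nat_lit 0]), (nat_lit 12, [nat_lit 0]), (nat_lit 16, [nat_lit 1, nat_lit 0]), (nat_lit 17, [nat_lit 3, nat_lit 3]), (nat_lit 18, [nat_lit 1, nat_lit 0, nat_lit 1, nat_lit 0, nat_lit 0]), (nat_lit 21, [nat_lit 2, nat_lit 1, nat_lit 1]), (nat_lit 23, [nat_lit 3, nat_lit 2, nat_lit 2]), (nat_lit 24, [nat_lit 3, nat_lit 3, nat_lit 1, nat_lit 0, nat_lit 0]), (nat_lit 25, [nat_lit 2, nat_lit 1, nat_lit 1, nat_lit 0]), (nat_lit 28, [nat_lit 3, nat_lit 2, nat_lit 0]), (nat_lit 29, [nat_lit 2, nat_lit 0, nat_lit 0, nat_lit 0, nat_lit 0, nat_lit 0]), (nat_lit 30, [nat_lit 3, nat_lit 2, nat_lit 2, nat_lit 0, nat_lit 0]), (nat_lit 31, [nat_lit 3, nat_lit 1, nat_lit 1, nat_lit 0]), (nat_lit 32, [nat_lit 3, nat_lit 3, nat_lit 1, nat_lit 0]), (nat_lit 33, [nat_lit 3, nat_lit 1, nat_lit 1, nat_lit 0, nat_lit 0]), (nat_lit 35, [nat_lit 2, nat_lit 1, nat_lit 0]), (nat_lit 36,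 [nat_lit 0, nat_lit 1, nat_lit 0]), (nat_lit 37, [nat_lit 2, nat_lit 1, nat_lit 0, nat_lit 1]), (nat_lit 38, [nat_lit 1, nat_lit 1, nat_lit 0, nat_lit 0, nat_lit 0]), (nat_lit 40, [nat_lit 3, nat_lit 1, nat_lit 0, nat_lit 0]), (nat_lit 42, [nat_lit 1, nat_lit 0, nat_lit 0, nat_lit 0]), (nat_lit 43, [nat_lit 2, nat_lit 2, nat_lit 1, nat_lit 1]), (nat_lit 44, [nat_lit 2, nat_lit 2, nat_lit 1, nat_lit 1, nat_lit 0, nat_lit 0]), (nat_lit 45, [nat_lit 1, nat_lit 1, nat_lit 0]), (nat_lit 47, [nat_lit 2, nat_lit 0]), (nat_lit 48, [nat_lit 3, nat_lit 2, nat_lit 1]), (nat_lit 50, [nat_lit 2, nat_lit 1, nat_lit 0, nat_lit 1, nat_lit 0]), (nat_lit 54, [nat_lit 2, nat_lit 0, nat_lit 0, nat_lit 0]), (nat_lit 55, [nat_lit 1, nat_lit 1, nat_lit 0, nat_lit 0]), (nat_lit 56, [nat_lit 1, nat_lit 1]), (nat_lit 57, [nat_lit 2, nat_lit 2, nat_lit 0]), (nat_lit 58, [nat_lit 0, nat_lit 0, nat_lit 0, nat_lit 0]), (nat_lit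 60, [nat_lit 0, nat_lit 1, nat_lit 0, nat_lit 0]), (nat_lit 62, [nat_lit 3, nat_lit 3, nat_lit 1]), (nat_lit 64, [nat_lit 2, nat_lit 2, nat_lit 1, nat_lit 1, nat_lit 0]), (nat_lit 65, [nat_lit 3]), (nat_lit 66, [nat_lit 3, nat_lit 3, nat_lit 1, nat_lit 1, nat_lit 0]), (nat_lit 67, [nat_lit 2, nat_lit 0, nat_lit 1, nat_lit 0]), (nat_lit 70, [nat_lit 3, nat_lit 2, nat_lit 1, nat_lit 0, nat_lit 0]), (nat_lit 72, [nat_lit 3, nat_lit 3, nat_lit 1, nat_lit 1]), (nat_lit 73, [nat_lit 2, nat_lit 1]), (nat_lit 74, [nat_lit 2, nat_lit 0, nat_lit 1]), (nat_lit 75, [nat_lit 2, nat_lit 2, nat_lit 1, nat_lit 0]), (nat_lit 77, [nat_lit 2, nat_lit 2, nat_lit 0, nat_lit 0]), (nat_lit 78, [nat_lit 0, nat_lit 1, nat_lit 0, nat_lit 0, nat_lit 0]), (nat_lit 79, [nat_lit 3, nat_lit 1, nat_lit 0]), (nat_lit 80, [nat_lit 1, nat_lit 0, nat_lit 1, nat_lit 0]), (nat_lit 86, [nat_lit 2]), (nat_lit 87, [nat_lit 2, nat_lit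 1, nat_lit 1, nat_lit 0, nat_lit 0]), (nat_lit 88, [nat_lit 2, nat_lit 2, nat_lit 1]), (nat_lit 89, [nat_lit 0, nat_lit 1, nat_lit 1, nat_lit 0]), (nat_lit 91, [nat_lit 3, nat_lit 0, nat_lit 0]), (nat_lit 92, [nat_lit 0, nat_lit 1]), (nat_lit 93, [nat_lit 0, nat_lit 0, nat_lit 1]), (nat_lit 94, [nat_lit 3, nat_lit 2, nat_lit 1, nat_lit 1, nat_lit 0, nat_lit 0]), (nat_lit 95, [nat_lit 3, nat_lit 1, nat_lit 1]), (nat_lit 96, [nat_lit 0, nat_lit 0, nat_lit 0]), (nat_lit 98, [nat_lit 2, nat_lit 2, nat_lit 1, nat_lit 0, nat_lit 0]), (nat_lit 99, [nat_lit 3, nat_lit 2, nat_lit 1, nat_lit 1, nat_lit 0]), (nat_lit 100, [nat_lit 3, nat_lit 2, nat_lit 2, nat_lit 0]), (nat_lit 102, [nat_lit 3, nat_lit 2, nat_lit 1, nat_lit 1]), (nat_lit 105, [nat_lit 2, nat_lit 1, nat_lit 1, nat_lit 0, nat_lit 0, nat_lit 0]), (nat_lit 107, [nat_lit 2, nat_lit 2]), (nat_lit 109, [nat_lit 3, nat_lit 0]), (nat_lit 110, [nat_lit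 0, nat_lit 0, nat_lit 0, nat_lit 0, nat_lit 0]), (nat_lit 112, [nat_lit 3, nat_lit 3, nat_lit 1, nat_lit 1, nat_lit 0, nat_lit 0]), (nat_lit 113, [nat_lit 2, nat_lit 0, nat_lit 0, nat_lit 0, nat_lit 0]), (nat_lit 114, [nat_lit 2, nat_lit 1, nat_lit 0, nat_lit 0, nat_lit 0]), (nat_lit 115, [nat_lit 1, nat_lit 0, nat_lit 0]), (nat_lit 117, [nat_lit 3, nat_lit 3, nat_lit 0, nat_lit 0]), (nat_lit 118, [nat_lit 0, nat_lit 0]), (nat_lit 119, [nat_lit 3, nat_lit 2])]),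
  ([[nat_lit 0]], nat_lit 34, [(nat_lit 34, []), (nat_lit 39, [nat_lit 0, nat_lit 0]), (nat_lit 97, [nat_lit 0])])]

theorem rel0 : P.relRow (dT T W) B 0 = true := by decide +kernel
theorem rel1 : P.relRow (dT T W) B 1 = true := by decide +kernel
theorem rel2 : P.relRow (dT T W) B 2 = true := by decide +kernel
theorem rel3 : P.relRow (dT T W) B 3 = true := by decide +kernel
theorem rel4 : P.relRow (dT T W) B 4 = true := by decide +kernel
theorem fus0 : P.fusOk (dT T W) B fu 0 = true := by decide +kernel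
theorem fus1 : P.fusOk (dT T W) B fu 1 = true := by decide +kernel
theorem fus2 : P.fusOk (dT T W) B fu 2 = true := by decide +kernel
theorem fus3 : P.fusOk (dT T W) B fu 3 = true := by decide +kernel
theorem fus4 : P.fusOk (dT T W) B fu 4 = true := by decide +kernel
theorem fus5 : P.fusOk (dT T W) B fu 5 = true := by decide +kernel
theorem fus6 : P.fusOk (dT T W) B fu 6 = true := by decide +kernel
theorem fus7 : P.fusOk (dT T W) B fu 7 = true := by decide +kernel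
theorem fus8 : P.fusOk (dT T W) B fu 8 = true := by decide +kernel
theorem fin0 : P.finRow lam (bs :: CV) MU 0 = true := by decide +kernel
theorem fin1 : P.finRow lam (bs :: CV) MU 1 = true := by decide +kernel
theorem fin2 : P.finRow lam (bs :: CV) MU 2 = true := by decide +kernel
theorem fin3 : P.finRow lam (bs :: CV) MU 3 = true := by decide +kernel
theorem fin4 : P.finRow lam (bs :: CV) MU 4 = true := by decide +kernel

theorem pm {G : Type*} [Group G] [Finite G] {A : RAct G 120} {g : ℕ → G} (hb : A.IsBase B)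
    (h : A.Tab g 15 T) (ho : Nat.card G = 174182400) : PMult G 3 0 0 :=
  pmult_of_tab hb h ho P (show Nat.Prime 3 by norm_num) W fu 0 lam bs mo [cc0] CV MU lv 9
    (by decide +kernel) (forall_lt_succ' (forall_lt_succ' (forall_lt_succ' (forall_lt_succ' (forall_lt_succ' forall_lt_zero' rel0) rel1) rel2) rel3) rel4) (by decide +kernel)
    (forall_lt_succ' (forall_lt_succ' (forall_lt_succ' (forall_lt_succ' (forall_lt_succ' (forall_lt_succ' (forall_lt_succ' (forall_lt_succ' (forall_lt_succ' forall_lt_zero' fus0) fus1) fus2) fus3) fus4) fus5) fus6) fus7) fus8)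
    (by decide +kernel) (by decide +kernel) (by decide +kernel) (by decide +kernel)
    (List.forall_mem_cons.mpr ⟨con0, (by simp)⟩)
    (forall_lt_succ' (forall_lt_succ' (forall_lt_succ' (forall_lt_succ' (forall_lt_succ' forall_lt_zero' fin0) fin1) fin2) fin3) fin4) (by decide +kernel)

end Cfsg.Agent.H3.O8.P3
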