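import Cfsg.Agent.L0.CosetChain

/-! Generated coset table certificate. -/

set_option autoImplicit false
set_option maxRecDepth 100000

open Cfsg.Agent.L0

namespace Cfsg.Agent.H3.O8.Tc0

noncomputable def t0 : BT := .node (.node (.node (.node (.leaf (nat_lit 0x1ae10000a46bc40971b1010425c204b8415788113102586860858d6883ad1026020848422f81000506441c478a800270004c20208484280025000480008c00110880a11b2a21a540010a2601286080008063430959c3020c2181841c30808210f120007c40c30c5861860c30810000f21301120300007447850c105000386080c480a8001b0003420614000c880812200e00060000b95f001070c2122447c180016103080005441410828620f0800050a082081901010220608440215580506240004cc782081831200620204488680012000224040d27c1882850002023c3400079260068a120003800068000c000160002840408c10411104000240004000073840800018a40111c800800210004200084001080020001400020400108002100042000800030000410004200080000)) (.leaf (nat_lit 0x23b90275544d278c1c81369c27d184a5809be61bae8209206e3008093337cc001dc4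eacb5f121b5b8268e88ea309a57137c6369bc4d5909bcc12f8e2650cac129963010126d6a994ba3b55924b88c371184ee3882c61398a2024c4c6309b46000ec40919ada111ec82308c56b18003ab26122a58a001d06912884c52b684202484922891453bbe6411146e23092182238a543144a3932611509e666f644d258c44413ca6202445030800731058821310ce7688397131a427184e122326103b74c202404e9d0d8c7134502634c4e9d118dc3314e65b5cc8598d7b413362a62e84da63850f12480f535c4938081c01378c20858479b092f042fbc202404de28c84e3a2e07578928a7b720f11dac45f0450f20d8de122822232c4c4889ff15b07625db08860898d2139525375840483428f))) (.node (.leaf (nat_lit 0x1010e54aa0c95210b251b166330a04952091a311d96331ac6ce188ca83a6343469046cab8e8619ad6249580036881a32b896206304765094eb23c982021c6eaa8882f1ae7e21b284ca1b72061388626fa46f2625b4b10344272b8ad0c89b4723a7437170404389c6c23b98269304e253688611946001b049628006b1318e52294484d8879511a4a22ea18d71889251a1302021ca652b4c0622448001a8499408aa413c74226ac4a0d09228103424289080b2000691a45052a8c4043b42861984a2634c003408087131b23042443d188b24126c03049c6dee0892a20e46644a0442bb3906138c60019c4e9d800661010e37c2c505100065000c827954609311d2c240440018c80afb2f863a4c0001880030961cc13b94422844ccb892cb1010e00180002f889211a6964475c609230986))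 (.leaf (nat_lit 0x9a8d02839840518a1e712dba255a047b7093e82a9d028dd44ff8914e81a85494da04ab447ba24c4ea2028851a50a47513dd228b9c90178a46d145cec85a04ef08e2674c2da39bd93133c85214b8e8381a04db789e55137cc378c84e2409c77338f0202888db311b5413e6096d212d2d47221146c828dd96fb18a27813cca388f448e8081e3239ca389912ef28a372146c6202884eb2c4c213c5ca2858c70a08a2e510348280a450b20a464104be481e06f1d09e61241c878f904051442a123744483904ff2921771364a27f8c7172880a2138c676dd06da38df631b5a0305948df1c132162ae0202846d2688b62130c4266d44bf1096423acd852b888bf1097c91aec4359c04ba048520828e4773844050915722bace677904de90dbc4438c2273750df491ba91bf88373cc4e70c7ba0)))) (.node (.node (.leaf (nat_lit 0x71f0a86268a7cd8c4981292c547144892880852a1302146049c9a4112323363046c488c213042212e3625d89cb8819722e6840d104d25890971010a8045d0bdf941114b2424405c608d209841093e2163068db202942a0262073840cb096c928e2c202106a0c0c1c23822c7567043cb272033232a0013c67438004e0009a51e40c6839060749a502072800260808431f0a31c940025a5f0312b38228b441c608084188280012841d98849f2317220c58424a082c010318218300024a3903126322020cab59081931a630001200023895191a2265044c484b0004612f6435ac848c9a850210706508488889103921a0242066048c90900d1287a210484849000451a2242020c499ba4c0242b22254f44ed488291122222065c4dd4a5aa91031e4084488488004453082b50f04041a4282))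 (.leaf (nat_lit 0x3317236361cc2c0985820ab0665a84d3c089b41013ea5f6042ec1d7b81b8e8362e46b584099e41e962550988eb89743436e84235849ab8922130f463671c4d758809e325ae4352c69b045f1d21c829469c4f789d7d3130ac202784a5e08e4110eac455bcebeb0895713be287bc4e36b4261d33aee673206cea8dda213b4e56ec44b9a119781389a77798ad258809d13372271d04d99b5f1c1303a260f88c2a0809d233a826f984db789a541326c35cb04d2a0d8321329e467506ca8b391c1b6d84608c6d298996f13bda364d0404e89c6a2b8a6261586ee20d8431b97c26b784e69b1c9c230a4202716c69097202b03a961048c22098521a0a435cb8c79791a4b336c285f4848693851b12c7c2026d4d68899a912fa226b748d352599d133a8554f48ba880078138bcb5cf8cb1b3851a))) (.node (.leaf (nat_lit 0x68b1c25cb8e3900873812978261604bd00808e1127091ae04b3709fea4b5ba31a80a45c3130d1251a462c4689b881b61296e242dc679b993372a524202354a1b8d03711f6e24edca95eb720c1a66c356d8490b0808d1a96c342d800380923612da2304dc4a9b0913641d84646d8cc6a3390c5aa6a350d56a5a895351011a26724aa1ab13b51ab1ca52d46996959621296a250d44a1732f8c12a60426d04bce895301297e2610c4e9ca97b912d38224784bcb899d34adaac256040463428b126b2c58cc67601c2331228623db440460c6da1b5aa20acc4c941143f40628217644d26b1c8b13462360c84b89881b1130a026350ab89897131b0642022d2b8d89ee63b48ef58644c593720a5b364264dc6e870808b1333435e746ca189b311b57e304c86cc609c551387476ac48cccb390a))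 (.leaf (nat_lit 0x2b4f0277dcaeb50a0e4136f0203444f7a21c74139b478794ad7c09cdd1b3b0267544e734265013bab075e070fb91df432cee37fdc907b880c823cee2878c4b7b8a077142ee36f984f7bc134714ada38b9493fb126f613fe647f64543b0a767103ea29dd88e2f09fdb1cfec299b44063442c5145cea73b472ba922e8144e4449d452ba9e3f51018c38f9c4e27892f52c9ea291d460bb409c5139cc203144d6f09be3139d687bd04e6c15bd51b7b2279dc4deb89f742bcf0273e04ee44854410a88573cc8ff99057313ebc743cc4ff989d6123ae4217cc6fbb091732bee6203104f22c4c43129c227334717909bdd1439e38b945179082723278a2578470fa880bd2c4e4a07c84ef9c5f3c1be76463c46f2b1de4f33ed037dc46eab09f5623fe2202ec702e89ff11c07837d045038c723a))))) (.node (.node (.node (.leaf (nat_lit 0x7a2200010c6808000423202080410404188710000820010048480881531c1a51a416bdda1c8213552000fd2ad60003e2201e4043c4ad60003d10106000f048478818f00076352b06088a098210c70202084ed88858e23752000e8ab07086a01ac5c614396a958003912d1c000e04b1aa85012a46e542344041000372a45a53e3447480ce8313952000d8001a8900d2210633e48899627b8118b1841458618a0818913462206bc608a1c59400068202084a8d0c127000666167ccace272011b41631c2d0d45800321031025ab04bc58978b19116000c4404109fa222e1655c2c4485a688111354000c067428002f0005c71e1cc6c50870a0005a206a800160808211c14a1a280015a5f0110b043101103448808238712000a840c4881891103c304304204881a34021260425038323901))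 (.leaf (nat_lit 0x234a036d414c5e959d010136289404db189a50125a0269406bd9221d02a2ca96740892832f9a6279e202546ce4097bb237ea4493c8c6a098ef1238427bc4f0b9092cf42fdee4db04eef385141259465aec67e70c3ca138c0223086767093ce127d620254cd640c11611e9c54d38acee3721412fb4b71c84d7115adf10398865344c8e1984d1b36626168404a899cd2ad92263346deab68943389836f704f5329c601012a375304f13219a61b5862888460a689dcc2aa3236d1c4f53b2f9411fae551806ce2119dc135aa26b4849d088dd71012a26e984e53948411b32e348846714309941a49c5532931738c11513cbe323004a1f906273b74c21138ee908809441c4e74fac4d1d35f1332e9225c7c4c0e0974920a9255d884ba68971c1012885b2442e4999351ae38458586cdcb0993))) (.node (.leaf (nat_lit 0x1a968202288a980949e1aa6025b1c6f73095b012eb0352d04ad80006f4a890854c04b0fb85092135e458bd06978c22a11fa471e9c48368872f4115e202284bce8c10c141cea1abc4497b72093af4035ae1aacc897d210358365b04b570962e1a76a75a80404521c262ac5c456b84b47368892165a92650e5d698a2d1276a622b4a99688b2d1035622ab449468892d1275a82ab440453428942a58a56f04b07897d410114276884c5d8950f1271a55a7460971960b2aa1e450f44dd4b2f89898dc85aac4a0d0862b12b1c429a4475588aaa10114816ac4d549492419c56335b86096b098939214762a841370c10a12eb63228c4a7408d6e1115420abc6b9008089000dc428ad441535f081b41e202206e8889a3d1b456271848e2089b3c23658665444e0715fe42b62226c446e06b8507))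 (.leaf (nat_lit 0x12bc42590068e12107012be084bc048e1096e212ed4243c0aab8093701016c649084c77c55b51b3bc75fbd4d73095d61acde202c04c279d76c230e03634c4b7789ac71b5a83613c4f754262f1195625ee460d508dee1ab70539b8405508dab21bdc935b86b5e08eee31dd0732a8473741ca9449ec275d440538cfed13a88262fc50f39a5f613cda241b4aea990eb331f5e98f9c8ef6c7ba6137a6202948c36196c1229d836e984c76093cf2278026b784ab6099ae1b0d825fbc4b714852411b4ed4fac67f588ca8334ae227ac47f58944a1bab8202946e3a0c96b51ed63509cc9a747224239d4202904efc08bea130d447ce04eaf09cde23cde52da88bf5099d8135a2b6f4d8b7848523218d266c9869f488be9138c22029049f490b69113d242da46f3388aab226d222fa4e4b4c2623)))) (.node (.node (.leaf (nat_lit 0x1305c2021843dc0972e12f5400178002e887385104065b48c42d8005c1ae70818384450385051882c55b24002d880861883e7147c002d0860c22b60b5270424f8859f000b261050002c339052113ce227929de188b42043c0015c494f0849e1010c550c0414f000564a43c4107863c4b09851afa8202148b9a0972c1ae5e001544d5f2183e1b23a001504c6909831000a6269444ccea85041aa28001488be48951f10332356704be48961612c183541840428961c1b19a35b246b1a268841263400144480c1921a12f647046c490c081982233635a2000280819b1a04a20214490da4c042253626460c9d5955882a9186046849d40901a1032e24a6ccc988819a1a74903e684042a428492526556644b17094191010a568644ae6096b21346294e64608e09a991354cc524c4b9fa2f84))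 (.leaf (nat_lit 0x125422532cca70080a113990327804d7009460127ae273314de708a60434c0b4f80a951c39201b8be37b7c6eef89c5a101423737c4e2f89bdf1034426d346ee509d5f2b7bec6d7c60f242fa0134de76d78ed3a11a6c139ec26b706de8ada5323a9e26504ef79880a03b9d4371a84c2145f1f1baba475744eae0dc61141e2771e04d9c09bdd1aeba86dc8ab3419a5110140a6d744beec559f1368e271306e6e89ca613846202804c2e15c3a1349c2692cedac8da5e22fb82650c4ef5c261f20eb68256c404f8885b1114067dd84c6d886db10db6d1f6d0b5511a592b0b69196d032dc7b9e2ae9a55b68482ca17cd10bb424368acac88859135cc36f7ca2ad1105a1013e21cccee3c4559e7256627110a7ed1c3d9137b826b6c404f8c5331b990211656c118a076133b431f684e3a41c9e))) (.leaf (nat_lit 0x1a384357c047998809012080308504160084c052dc43050927e00894a40480611004a363390f2ae7e2023cebdf8833f1302e252cc4bd3896bf1ad3250afcca1a1186d4a795158fc4d98b850e1aba245f504d1c881bc1ab7c208f84ea9897d14af7c2023c4b1f0c1be2343a262744c1f3720e10678552444ca8095d12297a001c84b1e894ac1266e366a44a9e8a2e51ab7a2023c69c934c0e5057a258b04a0f0808f12edc308f050788949112a78304f90a1c082bc228ac86aa50a5e3390e13fe225d39ae510007113376262ec4047a97bb1302065d3c8c9d8d83b1b058260ec4c60b1c8e23c744671c6e618c5ba13dc826ae4cdd88994323394218e88ed20808e1b986273704ed335f0d132b065db88cdf086b93b172202388caa8995813492418e44c9c9da3a33968260d04c8a3260d))))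

noncomputable def tree : BT := t0

noncomputable def row : ℕ → ℕ := rowOf tree (nat_lit 3) (nat_lit 7) (nat_lit 304) (nat_lit 0xffffffffffffffffffffffffffffffffffffffffffffffffffffffffffffffffffffffffffff)

noncomputable def cols : List Col := [⟨nat_lit 19, nat_lit 1, [([nat_lit 133], nat_lit 0), ([nat_lit 19, nat_lit 19], nat_lit 0), ([nat_lit 209, nat_lit 133, nat_lit 95], nat_lit 0), ([nat_lit 38, nat_lit 133, nat_lit 38, nat_lit 285], nat_lit 0), ([nat_lit 285, nat_lit 228, nat_lit 38, nat_lit 133, nat_lit 228], nat_lit 0), ([nat_lit 190, nat_lit 133, nat_lit 190, nat_lit 19, nat_lit 76], nat_lit 0), ([nat_lit 247, nat_lit 95, nat_lit 285, nat_lit 266, nat_lit 38, nat_lit 209, nat_lit 247], nat_lit 0), ([nat_lit 266, nat_lit 57, nat_lit 76, nat_lit 266, nat_lit 171, nat_lit 76, nat_lit 95, nat_lit 152, nat_lit 95, nat_lit 228], nat_lit 0), ([nat_lit 76, nat_lit 19, nat_lit 190, nat_lit 133, nat_lit 190], nat_lit 0), ([nat_lit 114, nat_lit 133,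 nat_lit 76, nat_lit 266, nat_lit 114, nat_lit 266, nat_lit 190], nat_lit 0), ([nat_lit 285, nat_lit 133, nat_lit 152, nat_lit 266, nat_lit 133, nat_lit 266, nat_lit 38, nat_lit 266], nat_lit 0)]⟩,
  ⟨nat_lit 38, nat_lit 1, [([nat_lit 152], nat_lit 0), ([nat_lit 38, nat_lit 38], nat_lit 0), ([nat_lit 133, nat_lit 38, nat_lit 285, nat_lit 19], nat_lit 0), ([nat_lit 190, nat_lit 152, nat_lit 190, nat_lit 38, nat_lit 76], nat_lit 0), ([nat_lit 228, nat_lit 171, nat_lit 152, nat_lit 285, nat_lit 57, nat_lit 114], nat_lit 0), ([nat_lit 285, nat_lit 38, nat_lit 285, nat_lit 38, nat_lit 285], nat_lit 0), ([nat_lit 228, nat_lit 266, nat_lit 114, nat_lit 266, nat_lit 152, nat_lit 266], nat_lit 0), ([nat_lit 247, nat_lit 38, nat_lit 247, nat_lit 38, nat_lit 247], nat_lit 0), ([nat_lit 76, nat_lit 38, nat_lit 190, nat_lit 152, nat_lit 190], nat_lit 0), ([nat_lit 285, nat_lit 19, nat_lit 38, nat_lit 133], nat_lit 0), ([nat_lit 133, nat_lit 228, nat_lit 19, nat_lit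 285, nat_lit 228], nat_lit 0), ([nat_lit 209, nat_lit 152, nat_lit 171, nat_lit 95, nat_lit 57], nat_lit 0), ([nat_lit 266, nat_lit 38, nat_lit 285, nat_lit 266, nat_lit 285, nat_lit 38, nat_lit 266], nat_lit 0), ([nat_lit 285, nat_lit 95, nat_lit 38, nat_lit 114, nat_lit 152, nat_lit 209, nat_lit 228], nat_lit 0), ([nat_lit 19, nat_lit 247, nat_lit 285, nat_lit 133, nat_lit 285, nat_lit 247, nat_lit 133], nat_lit 0), ([nat_lit 266, nat_lit 19, nat_lit 285, nat_lit 133, nat_lit 152, nat_lit 266, nat_lit 133, nat_lit 266], nat_lit 0)]⟩,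
  ⟨nat_lit 57, nat_lit 0, [([nat_lit 171], nat_lit 0), ([nat_lit 152, nat_lit 57, nat_lit 152], nat_lit 0), ([nat_lit 190, nat_lit 57, nat_lit 247, nat_lit 76], nat_lit 0), ([nat_lit 38, nat_lit 209, nat_lit 152, nat_lit 171, nat_lit 95], nat_lit 0), ([nat_lit 247, nat_lit 76, nat_lit 57, nat_lit 190], nat_lit 0), ([nat_lit 114, nat_lit 57, nat_lit 228, nat_lit 171, nat_lit 228], nat_lit 0), ([nat_lit 228, nat_lit 171, nat_lit 228, nat_lit 57, nat_lit 114], nat_lit 0), ([nat_lit 76, nat_lit 266, nat_lit 171, nat_lit 76, nat_lit 95, nat_lit 152, nat_lit 95, nat_lit 228, nat_lit 19, nat_lit 266], nat_lit 0), ([nat_lit 114, nat_lit 38, nat_lit 228, nat_lit 171, nat_lit 152, nat_lit 285], nat_lit 0)]⟩,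
  ⟨nat_lit 76, nat_lit 0, [([nat_lit 190], nat_lit 0), ([nat_lit 114, nat_lit 190, nat_lit 228], nat_lit 0), ([nat_lit 57, nat_lit 190, nat_lit 57, nat_lit 247], nat_lit 0), ([nat_lit 19, nat_lit 190, nat_lit 133, nat_lit 190, nat_lit 19], nat_lit 0), ([nat_lit 95, nat_lit 152, nat_lit 95, nat_lit 228, nat_lit 19, nat_lit 266, nat_lit 57, nat_lit 76, nat_lit 266, nat_lit 171], nat_lit 0), ([nat_lit 266, nat_lit 114, nat_lit 266, nat_lit 190, nat_lit 19, nat_lit 114, nat_lit 133], nat_lit 0), ([nat_lit 266, nat_lit 171, nat_lit 76, nat_lit 95, nat_lit 152, nat_lit 95, nat_lit 228, nat_lit 19, nat_lit 266, nat_lit 57], nat_lit 0), ([nat_lit 38, nat_lit 190, nat_lit 152, nat_lit 190, nat_lit 38], nat_lit 0)]⟩,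
  ⟨nat_lit 95, nat_lit 1, [([nat_lit 209], nat_lit 0), ([nat_lit 95, nat_lit 95], nat_lit 0), ([nat_lit 19, nat_lit 209, nat_lit 133], nat_lit 0), ([nat_lit 57, nat_lit 38, nat_lit 209, nat_lit 152, nat_lit 171], nat_lit 0), ([nat_lit 114, nat_lit 247, nat_lit 228, nat_lit 209, nat_lit 266], nat_lit 0), ([nat_lit 285, nat_lit 114, nat_lit 209, nat_lit 228, nat_lit 285], nat_lit 0), ([nat_lit 285, nat_lit 266, nat_lit 38, nat_lit 209, nat_lit 247, nat_lit 19, nat_lit 247], nat_lit 0), ([nat_lit 38, nat_lit 247, nat_lit 152, nat_lit 209, nat_lit 38, nat_lit 247, nat_lit 152], nat_lit 0), ([nat_lit 38, nat_lit 114, nat_lit 152, nat_lit 209, nat_lit 228, nat_lit 38, nat_lit 285], nat_lit 0), ([nat_lit 228, nat_lit 19, nat_lit 266, nat_lit 57, nat_lit 76, nat_lit 266, nat_lit 171, nat_lit 76, nat_lit 95, nat_lit 152], nat_lit 0), ([nat_lit 152, nat_lit 95, nat_lit 38, nat_lit 95, nat_lit 152, nat_lit 95, nat_lit 38], nat_lit 0), ([nat_lit 152, nat_lit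 95, nat_lit 228, nat_lit 19, nat_lit 266, nat_lit 57, nat_lit 76, nat_lit 266, nat_lit 171, nat_lit 76], nat_lit 0)]⟩,
  ⟨nat_lit 114, nat_lit 1, [([nat_lit 228], nat_lit 0), ([nat_lit 114, nat_lit 114], nat_lit 0), ([nat_lit 190, nat_lit 228, nat_lit 76], nat_lit 0), ([nat_lit 266, nat_lit 190, nat_lit 19, nat_lit 114, nat_lit 133, nat_lit 76, nat_lit 266], nat_lit 0), ([nat_lit 266, nat_lit 152, nat_lit 266, nat_lit 38, nat_lit 228, nat_lit 266], nat_lit 0), ([nat_lit 247, nat_lit 228, nat_lit 209, nat_lit 266, nat_lit 95], nat_lit 0), ([nat_lit 133, nat_lit 76, nat_lit 266, nat_lit 114, nat_lit 266, nat_lit 190, nat_lit 19], nat_lit 0), ([nat_lit 285, nat_lit 114, nat_lit 285], nat_lit 0), ([nat_lit 152, nat_lit 209, nat_lit 228, nat_lit 38, nat_lit 285, nat_lit 95, nat_lit 38], nat_lit 0), ([nat_lit 209, nat_lit 228, nat_lit 285, nat_lit 95, nat_lit 285], nat_lit 0), ([nat_lit 57, nat_lit 228, nat_lit 171, nat_lit 228, nat_lit 57], nat_lit 0),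 ([nat_lit 285, nat_lit 247, nat_lit 38, nat_lit 114, nat_lit 285, nat_lit 247, nat_lit 38], nat_lit 0)]⟩,
  ⟨nat_lit 133, nat_lit 1, [([nat_lit 19], nat_lit 0), ([nat_lit 95, nat_lit 19, nat_lit 209], nat_lit 0), ([nat_lit 38, nat_lit 285, nat_lit 19, nat_lit 38], nat_lit 0), ([nat_lit 285, nat_lit 247, nat_lit 133, nat_lit 38, nat_lit 19, nat_lit 247, nat_lit 285], nat_lit 0), ([nat_lit 190, nat_lit 19, nat_lit 76, nat_lit 19, nat_lit 190], nat_lit 0), ([nat_lit 152, nat_lit 285, nat_lit 133, nat_lit 152, nat_lit 285], nat_lit 0), ([nat_lit 76, nat_lit 266, nat_lit 114, nat_lit 266, nat_lit 190, nat_lit 19, nat_lit 114], nat_lit 0), ([nat_lit 228, nat_lit 19, nat_lit 285, nat_lit 228, nat_lit 38], nat_lit 0), ([nat_lit 266, nat_lit 38, nat_lit 266, nat_lit 19, nat_lit 285, nat_lit 133, nat_lit 152, nat_lit 266], nat_lit 0), ([nat_lit 152, nat_lit 266, nat_lit 133, nat_lit 266, nat_lit 38, nat_lit 266, nat_lit 19, nat_lit 285], nat_lit 0)]⟩,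
  ⟨nat_lit 152, nat_lit 1, [([nat_lit 38], nat_lit 0), ([nat_lit 57, nat_lit 152, nat_lit 57], nat_lit 0), ([nat_lit 190, nat_lit 38, nat_lit 76, nat_lit 38, nat_lit 190], nat_lit 0), ([nat_lit 171, nat_lit 95, nat_lit 57, nat_lit 38, nat_lit 209], nat_lit 0), ([nat_lit 285, nat_lit 57, nat_lit 114, nat_lit 38, nat_lit 228, nat_lit 171], nat_lit 0), ([nat_lit 209, nat_lit 228, nat_lit 38, nat_lit 285, nat_lit 95, nat_lit 38, nat_lit 114], nat_lit 0), ([nat_lit 95, nat_lit 228, nat_lit 19, nat_lit 266, nat_lit 57, nat_lit 76, nat_lit 266, nat_lit 171, nat_lit 76, nat_lit 95], nat_lit 0), ([nat_lit 285, nat_lit 133, nat_lit 152, nat_lit 285, nat_lit 133], nat_lit 0), ([nat_lit 266, nat_lit 38, nat_lit 228, nat_lit 266, nat_lit 114, nat_lit 266], nat_lit 0), ([nat_lit 266, nat_lit 38, nat_lit 285, nat_lit 152, nat_lit 266, nat_lit 38, nat_lit 285], nat_lit 0), ([nat_lit 95, nat_lit 38, nat_lit 95, nat_lit 152, nat_lit 95, nat_lit 38, nat_lit 95], nat_lit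 0)]⟩,
  ⟨nat_lit 171, nat_lit 0, [([nat_lit 57], nat_lit 0), ([nat_lit 228, nat_lit 57, nat_lit 114, nat_lit 57, nat_lit 228], nat_lit 0), ([nat_lit 76, nat_lit 95, nat_lit 152, nat_lit 95, nat_lit 228, nat_lit 19, nat_lit 266, nat_lit 57, nat_lit 76, nat_lit 266], nat_lit 0), ([nat_lit 95, nat_lit 57, nat_lit 38, nat_lit 209, nat_lit 152], nat_lit 0), ([nat_lit 152, nat_lit 285, nat_lit 57, nat_lit 114, nat_lit 38, nat_lit 228], nat_lit 0)]⟩,
  ⟨nat_lit 190, nat_lit 0, [([nat_lit 76], nat_lit 0), ([nat_lit 228, nat_lit 76, nat_lit 114], nat_lit 0), ([nat_lit 133, nat_lit 190, nat_lit 19, nat_lit 76, nat_lit 19], nat_lit 0), ([nat_lit 152, nat_lit 190, nat_lit 38, nat_lit 76, nat_lit 38], nat_lit 0), ([nat_lit 19, nat_lit 76, nat_lit 19, nat_lit 190, nat_lit 133], nat_lit 0), ([nat_lit 38, nat_lit 76, nat_lit 38, nat_lit 190, nat_lit 152], nat_lit 0), ([nat_lit 57, nat_lit 247, nat_lit 76, nat_lit 57], nat_lit 0), ([nat_lit 19, nat_lit 114, nat_lit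 133, nat_lit 76, nat_lit 266, nat_lit 114, nat_lit 266], nat_lit 0)]⟩,
  ⟨nat_lit 209, nat_lit 1, [([nat_lit 95], nat_lit 0), ([nat_lit 228, nat_lit 285, nat_lit 95, nat_lit 285, nat_lit 114], nat_lit 0), ([nat_lit 133, nat_lit 95, nat_lit 19], nat_lit 0), ([nat_lit 266, nat_lit 95, nat_lit 114, nat_lit 247, nat_lit 228], nat_lit 0), ([nat_lit 152, nat_lit 171, nat_lit 95, nat_lit 57, nat_lit 38], nat_lit 0), ([nat_lit 228, nat_lit 38, nat_lit 285, nat_lit 95, nat_lit 38, nat_lit 114, nat_lit 152], nat_lit 0), ([nat_lit 247, nat_lit 19, nat_lit 247, nat_lit 95, nat_lit 285, nat_lit 266, nat_lit 38], nat_lit 0)]⟩,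
  ⟨nat_lit 228, nat_lit 1, [([nat_lit 114], nat_lit 0), ([nat_lit 76, nat_lit 114, nat_lit 190], nat_lit 0), ([nat_lit 38, nat_lit 133, nat_lit 228, nat_lit 19, nat_lit 285], nat_lit 0), ([nat_lit 209, nat_lit 266, nat_lit 95, nat_lit 114, nat_lit 247], nat_lit 0), ([nat_lit 19, nat_lit 285, nat_lit 228, nat_lit 38, nat_lit 133], nat_lit 0), ([nat_lit 171, nat_lit 228, nat_lit 57, nat_lit 114, nat_lit 57], nat_lit 0), ([nat_lit 57, nat_lit 114, nat_lit 57, nat_lit 228, nat_lit 171], nat_lit 0), ([nat_lit 285, nat_lit 95, nat_lit 285, nat_lit 114, nat_lit 209], nat_lit 0), ([nat_lit 266, nat_lit 114, nat_lit 266, nat_lit 152, nat_lit 266, nat_lit 38], nat_lit 0)]⟩,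
  ⟨nat_lit 247, nat_lit 1, [([nat_lit 247], nat_lit 0), ([nat_lit 76, nat_lit 57, nat_lit 190, nat_lit 57], nat_lit 0), ([nat_lit 228, nat_lit 209, nat_lit 266, nat_lit 95, nat_lit 114], nat_lit 0), ([nat_lit 38, nat_lit 247, nat_lit 38, nat_lit 247, nat_lit 38], nat_lit 0), ([nat_lit 152, nat_lit 285, nat_lit 38, nat_lit 247, nat_lit 152, nat_lit 285, nat_lit 38], nat_lit 0), ([nat_lit 266, nat_lit 38, nat_lit 285, nat_lit 247, nat_lit 266, nat_lit 38, nat_lit 285], nat_lit 0), ([nat_lit 38, nat_lit 114, nat_lit 285, nat_lit 247, nat_lit 38, nat_lit 114, nat_lit 285], nat_lit 0), ([nat_lit 285, nat_lit 133, nat_lit 285, nat_lit 247, nat_lit 133, nat_lit 38, nat_lit 19], nat_lit 0), ([nat_lit 19, nat_lit 247, nat_lit 95, nat_lit 285, nat_lit 266, nat_lit 38, nat_lit 209], nat_lit 0), ([nat_lit 152, nat_lit 95, nat_lit 38, nat_lit 247, nat_lit 152, nat_lit 209, nat_lit 38], nat_lit 0), ([nat_lit 133, nat_lit 38, nat_lit 19, nat_lit 247, nat_lit 285,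 nat_lit 133, nat_lit 285], nat_lit 0), ([nat_lit 95, nat_lit 285, nat_lit 266, nat_lit 38, nat_lit 209, nat_lit 247, nat_lit 19], nat_lit 0), ([nat_lit 152, nat_lit 209, nat_lit 38, nat_lit 247, nat_lit 152, nat_lit 95, nat_lit 38], nat_lit 0)]⟩,
  ⟨nat_lit 266, nat_lit 1, [([nat_lit 266], nat_lit 0), ([nat_lit 95, nat_lit 114, nat_lit 247, nat_lit 228, nat_lit 209], nat_lit 0), ([nat_lit 114, nat_lit 266, nat_lit 152, nat_lit 266, nat_lit 38, nat_lit 228], nat_lit 0), ([nat_lit 38, nat_lit 228, nat_lit 266, nat_lit 114, nat_lit 266, nat_lit 152], nat_lit 0), ([nat_lit 171, nat_lit 76, nat_lit 95, nat_lit 152, nat_lit 95, nat_lit 228, nat_lit 19, nat_lit 266, nat_lit 57, nat_lit 76], nat_lit 0), ([nat_lit 152, nat_lit 266, nat_lit 38, nat_lit 228, nat_lit 266, nat_lit 114], nat_lit 0), ([nat_lit 38, nat_lit 209, nat_lit 247, nat_lit 19, nat_lit 247, nat_lit 95, nat_lit 285], nat_lit 0), ([nat_lit 114, nat_lit 266, nat_lit 190, nat_lit 19, nat_lit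 114, nat_lit 133, nat_lit 76], nat_lit 0), ([nat_lit 57, nat_lit 76, nat_lit 266, nat_lit 171, nat_lit 76, nat_lit 95, nat_lit 152, nat_lit 95, nat_lit 228, nat_lit 19], nat_lit 0), ([nat_lit 38, nat_lit 285, nat_lit 152, nat_lit 266, nat_lit 38, nat_lit 285, nat_lit 152], nat_lit 0), ([nat_lit 38, nat_lit 285, nat_lit 247, nat_lit 266, nat_lit 38, nat_lit 285, nat_lit 247], nat_lit 0), ([nat_lit 190, nat_lit 19, nat_lit 114, nat_lit 133, nat_lit 76, nat_lit 266, nat_lit 114], nat_lit 0), ([nat_lit 133, nat_lit 266, nat_lit 38, nat_lit 266, nat_lit 19, nat_lit 285, nat_lit 133, nat_lit 152], nat_lit 0), ([nat_lit 38, nat_lit 266, nat_lit 19, nat_lit 285, nat_lit 133, nat_lit 152, nat_lit 266, nat_lit 133], nat_lit 0), ([nat_lit 19, nat_lit 285, nat_lit 133, nat_lit 152, nat_lit 266, nat_lit 133, nat_lit 266, nat_lit 38], nat_lit 0)]⟩,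
  ⟨nat_lit 285, nat_lit 1, [([nat_lit 285], nat_lit 0), ([nat_lit 114, nat_lit 285, nat_lit 114], nat_lit 0), ([nat_lit 19, nat_lit 38, nat_lit 133, nat_lit 38], nat_lit 0), ([nat_lit 57, nat_lit 114, nat_lit 38, nat_lit 228, nat_lit 171, nat_lit 152], nat_lit 0), ([nat_lit 38, nat_lit 285, nat_lit 38, nat_lit 285, nat_lit 38], nat_lit 0), ([nat_lit 228, nat_lit 38, nat_lit 133, nat_lit 228, nat_lit 19], nat_lit 0), ([nat_lit 133, nat_lit 152, nat_lit 285, nat_lit 133, nat_lit 152], nat_lit 0), ([nat_lit 95, nat_lit 285, nat_lit 114, nat_lit 209, nat_lit 228], nat_lit 0), ([nat_lit 38, nat_lit 133, nat_lit 228, nat_lit 19, nat_lit 76, nat_lit 114, nat_lit 190], nat_lit 0), ([nat_lit 114, nat_lit 209, nat_lit 228, nat_lit 285, nat_lit 95], nat_lit 0), ([nat_lit 38, nat_lit 266, nat_lit 38, nat_lit 266, nat_lit 38, nat_lit 285, nat_lit 266], nat_lit 0), ([nat_lit 266, nat_lit 285, nat_lit 38, nat_lit 266, nat_lit 38, nat_lit 266, nat_lit 38], nat_lit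 0), ([nat_lit 247, nat_lit 38, nat_lit 114, nat_lit 285, nat_lit 247, nat_lit 38, nat_lit 114], nat_lit 0), ([nat_lit 95, nat_lit 38, nat_lit 114, nat_lit 152, nat_lit 209, nat_lit 228, nat_lit 38], nat_lit 0), ([nat_lit 133, nat_lit 285, nat_lit 247, nat_lit 133, nat_lit 38, nat_lit 19, nat_lit 247], nat_lit 0), ([nat_lit 247, nat_lit 133, nat_lit 38, nat_lit 19, nat_lit 247, nat_lit 285, nat_lit 133], nat_lit 0), ([nat_lit 266, nat_lit 38, nat_lit 209, nat_lit 247, nat_lit 19, nat_lit 247, nat_lit 95], nat_lit 0), ([nat_lit 38, nat_lit 247, nat_lit 152, nat_lit 285, nat_lit 38, nat_lit 247, nat_lit 152], nat_lit 0)]⟩]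

noncomputable def erots : List (List ℕ × ℕ) := []

noncomputable def gens : List ℕ := [nat_lit 19, nat_lit 38, nat_lit 57, nat_lit 76, nat_lit 95, nat_lit 114, nat_lit 133, nat_lit 152, nat_lit 171, nat_lit 190, nat_lit 209, nat_lit 228, nat_lit 247, nat_lit 266, nat_lit 285]

noncomputable def chk : ℕ → Bool := chkRow0 row (nat_lit 120) (nat_lit 0x7f) (nat_lit 0x3f80) (nat_lit 14) (nat_lit 0x1f) (nat_lit 0) (nat_lit 0x7f) (nat_lit 7) (nat_lit 0x1ff) (nat_lit 0x70000) [] cols gens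

theorem b0 : allR chk 7 0 = true := by decide +kernel

noncomputable def T : CT := ⟨row, nat_lit 120, nat_lit 120, nat_lit 0x7f, nat_lit 0x3f80, nat_lit 14, nat_lit 0x1f, nat_lit 0, nat_lit 0x7f, nat_lit 7, nat_lit 0x1ff, nat_lit 0x70000, nat_lit 304, nat_lit 304, nat_lit 0, nat_lit 11, [], cols, erots, gens⟩

theorem all : ∀ c < 120, chk c = true := fun c hc =>
  allR_glue (d := 7) (n := 1) (forall_lt_succ' forall_lt_zero' b0) c (lt_of_lt_of_le hc (by norm_num))

/-- the relators used -/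
def R : List (List ℕ) := [[nat_lit 0, nat_lit 6],
  [nat_lit 1, nat_lit 7],
  [nat_lit 2, nat_lit 8],
  [nat_lit 3, nat_lit 9],
  [nat_lit 4, nat_lit 10],
  [nat_lit 5, nat_lit 11],
  [nat_lit 12, nat_lit 12],
  [nat_lit 13, nat_lit 13],
  [nat_lit 14, nat_lit 14],
  [nat_lit 3, nat_lit 2, nat_lit 9, nat_lit 2, nat_lit 12],
  [nat_lit 4, nat_lit 5, nat_lit 12, nat_lit 11, nat_lit 10, nat_lit 13],
  [nat_lit 6, nat_lit 7, nat_lit 13, nat_lit 6, nat_lit 13, nat_lit 1, nat_lit 13, nat_lit 0, nat_lit 14],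
  [nat_lit 1, nat_lit 1, nat_lit 1],
  [nat_lit 14, nat_lit 1, nat_lit 14, nat_lit 1, nat_lit 14, nat_lit 1],
  [nat_lit 13, nat_lit 1, nat_lit 14, nat_lit 7, nat_lit 13, nat_lit 1, nat_lit 14, nat_lit 7],
  [nat_lit 13, nat_lit 14, nat_lit 1, nat_lit 13, nat_lit 1, nat_lit 13, nat_lit 1, nat_lit 14],
  [nat_lit 0, nat_lit 0, nat_lit 0],
  [nat_lit 0, nat_lit 1, nat_lit 6, nat_lit 1, nat_lit 14],
  [nat_lit 6, nat_lit 7, nat_lit 14, nat_lit 6, nat_lit 7, nat_lit 14],
  [nat_lit 5, nat_lit 5, nat_lit 5],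
  [nat_lit 5, nat_lit 14, nat_lit 5, nat_lit 14],
  [nat_lit 11, nat_lit 1, nat_lit 6, nat_lit 11, nat_lit 0, nat_lit 14],
  [nat_lit 11, nat_lit 13, nat_lit 5, nat_lit 13, nat_lit 7, nat_lit 13, nat_lit 1],
  [nat_lit 4, nat_lit 4, nat_lit 4],
  [nat_lit 4, nat_lit 0, nat_lit 10, nat_lit 6],
  [nat_lit 4, nat_lit 14, nat_lit 5, nat_lit 10, nat_lit 11, nat_lit 14],
  [nat_lit 1, nat_lit 12, nat_lit 1, nat_lit 12, nat_lit 1, nat_lit 12],
  [nat_lit 4, nat_lit 1, nat_lit 5, nat_lit 7, nat_lit 10, nat_lit 11, nat_lit 1, nat_lit 14],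
  [nat_lit 12, nat_lit 1, nat_lit 5, nat_lit 14, nat_lit 12, nat_lit 1, nat_lit 5, nat_lit 14],
  [nat_lit 12, nat_lit 6, nat_lit 1, nat_lit 0, nat_lit 12, nat_lit 14, nat_lit 6, nat_lit 14],
  [nat_lit 0, nat_lit 12, nat_lit 4, nat_lit 14, nat_lit 13, nat_lit 1, nat_lit 10, nat_lit 12],
  [nat_lit 1, nat_lit 12, nat_lit 7, nat_lit 4, nat_lit 1, nat_lit 12, nat_lit 7, nat_lit 10],
  [nat_lit 1, nat_lit 12, nat_lit 7, nat_lit 14, nat_lit 1, nat_lit 12, nat_lit 7, nat_lit 14],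
  [nat_lit 1, nat_lit 14, nat_lit 12, nat_lit 13, nat_lit 1, nat_lit 14, nat_lit 12, nat_lit 13],
  [nat_lit 1, nat_lit 4, nat_lit 7, nat_lit 4, nat_lit 1, nat_lit 4, nat_lit 7, nat_lit 4],
  [nat_lit 2, nat_lit 7, nat_lit 2, nat_lit 7],
  [nat_lit 3, nat_lit 5, nat_lit 9, nat_lit 11],
  [nat_lit 8, nat_lit 4, nat_lit 2, nat_lit 1, nat_lit 10, nat_lit 7],
  [nat_lit 2, nat_lit 5, nat_lit 2, nat_lit 11, nat_lit 8, nat_lit 11],
  [nat_lit 0, nat_lit 3, nat_lit 0, nat_lit 9, nat_lit 6, nat_lit 9],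
  [nat_lit 1, nat_lit 3, nat_lit 1, nat_lit 9, nat_lit 7, nat_lit 9],
  [nat_lit 2, nat_lit 5, nat_lit 1, nat_lit 11, nat_lit 8, nat_lit 7, nat_lit 14],
  [nat_lit 0, nat_lit 5, nat_lit 6, nat_lit 3, nat_lit 13, nat_lit 5, nat_lit 13, nat_lit 9],
  [nat_lit 0, nat_lit 3, nat_lit 5, nat_lit 9, nat_lit 14, nat_lit 1, nat_lit 6, nat_lit 11],
  [nat_lit 0, nat_lit 13, nat_lit 2, nat_lit 3, nat_lit 13, nat_lit 8, nat_lit 3, nat_lit 4, nat_lit 7, nat_lit 4, nat_lit 11]]

theorem cert : Cert T (R.map fun r => (r, 0)) ([0, 1, 4, 5, 6, 7, 10, 11, 12, 13, 14].map fun y => (y, 0)) 19 19 [0, 1, 2, 3, 4, 5, 6, 7, 8, 9, 10, 11, 12, 13, 14] :=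
  ⟨by decide +kernel, ⟨[[(0, 0), (16, 0), (24, 1), (17, 0), (21, 4), (39, 2), (30, 0), (44, 0), (39, 0), (42, 0), (11, 7)], [(1, 0), (12, 0), (17, 1), (40, 2), (41, 2), (13, 1), (22, 6), (26, 0), (40, 0), (17, 3), (21, 1), (37, 3), (15, 4), (27, 6), (29, 2), (11, 5)], [(2, 0), (35, 0), (9, 1), (37, 2), (9, 3), (38, 0), (38, 2), (44, 2), (41, 0)], [(3, 0), (36, 0), (9, 0), (39, 1), (44, 6), (42, 3), (44, 3), (40, 1)], [(4, 0), (23, 0), (24, 0), (37, 1), (10, 0), (25, 0), (30, 2), (31, 3), (27, 0), (44, 9), (34, 1), (44, 7)], [(5, 0), (19, 0), (36, 1), (42, 5), (22, 2), (10, 1), (42, 1), (20, 0), (27, 2), (25, 2), (38, 1), (28, 2)], [(0, 1), (24, 3), (17, 2), (29, 6), (39, 4), (18, 0), (42, 2), (21, 2), (11, 3), (11, 0)], [(1, 1), (35, 1), (40, 4), (37, 5), (41, 5), (27, 3), (44, 8), (18, 1), (22, 4), (14, 3), (34, 2)], [(2, 1), (38, 4), (44, 5), (37, 0), (41, 4)], [(3, 1), (36, 2), (39, 3), (40, 3), (39, 5), (40, 5), (9, 2), (42, 7)], [(4, 1), (25,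 3), (24, 2), (10, 4), (37, 4), (27, 4), (30, 6)], [(5, 1), (36, 3), (21, 0), (10, 3), (21, 3), (38, 3), (38, 5), (25, 4), (22, 0)], [(6, 0), (9, 4), (10, 2), (26, 1), (32, 1), (33, 2), (28, 0), (29, 4), (30, 7), (31, 1), (29, 0), (30, 1), (31, 5)], [(7, 0), (10, 5), (22, 1), (22, 5), (44, 4), (22, 3), (30, 4), (42, 4), (44, 1), (14, 0), (33, 3), (42, 6), (11, 2), (11, 4), (11, 6)], [(8, 0), (20, 1), (17, 4), (41, 6), (13, 0), (21, 5), (18, 2), (25, 5), (43, 4), (25, 1), (15, 1), (15, 7), (28, 3), (27, 7), (29, 5), (29, 7), (30, 3), (32, 3)]], [], by decide +kernel⟩, by decide +kernel, Or.inl ⟨rfl, all⟩⟩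

theorem bound {Γ : Type*} [Group Γ] {x : ℕ → Γ} (hR : ∀ r ∈ R, ev x r = 1) {n : ℕ}
    (h : CardLe x [0, 1, 4, 5, 6, 7, 10, 11, 12, 13, 14] n) : CardLe x [0, 1, 2, 3, 4, 5, 6, 7, 8, 9, 10, 11, 12, 13, 14] (120 * n) :=
  cert.cardLe rfl hR h

end Cfsg.Agent.H3.O8.Tc0
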