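import Cfsg.Agent.L0.CosetChain

/-! Generated coset table certificate. -/

set_option autoImplicit false
set_option maxRecDepth 100000

open Cfsg.Agent.L0

namespace Cfsg.Agent.H3.O8.Tc1

noncomputable def t0 : BT := .node (.node (.node (.leaf (nat_lit 0x206122a44003840c64586000000000428821aa9010800360000000038920858a99a090b14003443c251839332c00000000206298c1c868e00190000000008084434748905020d0b064043101089b940000000010e18860c6088000c000000000a346616323382a28753628005c818a4c49000000000808462884042800580000000030438005508c1000a0004c80826dcd24e200000000000120008800415308000000000003c001c5bc010330001ae78b000610308000000000005b820c00144041000000000001240c32bc01c111470271c3800208082000000000001c8184000630418000000000005404112b0020011000800104002000300000000040022001100080008000000001000880040000)) (.leaf (nat_lit 0xa4bacaba1553e49f5202a8000000004ab6206b12e9c98ba00000000000dcc6370aca30a9d45ce405435b41279c000000002133935a8d7eaa9a7000000001844e6e706de4c93c049f654f91a99881ca0000000012781c24c4aa6202a000000000497220b335e26455c432ba95b8cbca40540000000008ab8412523129829800000000227720395959321089979097b0825124798000000004b5a20c813c8509de0000000010138c3a4d126c187c8c44c863630f9368c0000000022b1903849ea50d630000000010a46404d67833889ae5e3001b1bb511a4400000000101348b444fcf26b1000000000651f52b13119964e1635093564ddc84e2100000000089c2404d37a8a37840000000042509828d848c)))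 (.node (.leaf (nat_lit 0x45f81377117484b9b2023000000000003121cc000c09a9400000000130a906b0cac2912b88d4a404527961124800000000222b800bc005c68de000000001882e459c6de10005a002c26f4800ac808a0000000012f648636002a75e48000000000029405432b08639565879905547aa4b9d00000000086aa4045220a800a000000000418a98c218484202258648004e40cf001300000000040d3504a13c88004a000000005844081a8a001c074c8088c19021299a54c0000000020c82083e0426499300000000381284bda4ef0d812441d42067abc8dd0bc000000001033c8448501f522b800000000404420c82448781e42564489449f424a5100000000081a240ce215222844000000008048901111e03)) (.leaf (nat_lit 0x671c1b9e080d64eb827170000000004df8275c339e09c6400000000336e11cf15bd52aada976f4477223b93ddc000000002034133ad086ecf37000000000d56c4b75a239c95eea9a6203112dd89dec0000000012bdd1652ab36475b0000000018a682556c6f4249a8202f32bd4984e6f75000000000956aab3774d413ed400000000953a931ae3bdd447a42bd1d4e840f256160000000004a7424fa10178ddbe000000002a8d1936919ae9a1cc935a6a334479924bc000000002119a2380926688a400000000203e6405e8787650bc8a32251310179dbf0000000001a49951e460b4373700000000048e02499433ba4caa37582b26899324e7100000000099546e712616b38c400000000202c13ac62257))))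 (.node (.node (.leaf (nat_lit 0x40679b72883a6404434d0000000000415430a91b9348c38000000001854d42c88ce19044096aaa09237d11253c00000000202212b6a4129490f000000000c12442534230e94b4e60e614720a38d39c0000000000090808842ce25070000000006b5a3048a090644a22021c20349d206d8d000000001893e0023270213734000000000011000853bc2d041a102c004040ca564d800000000410c20ee9010c96900000000038330829299a110524889847c350c5932640000000020649062c83966c870000000008086a14b4890901944e1043a51010d9a3000000000108288314608c36c3000000000a1ca60a523384a10b000f8007943924c160000000008086610c21049b0140000000030458007508c2)) (.leaf (nat_lit 0x260c13bc516e0405827580000000004df027539ae6d1ce0000000003b6c09c550ceb991bcd4de65af4277914900000000021d7a13708a5e68f300000000206de40578785a48ae4e2a22d29015c9d64000000001929549dc6f2c56fc00000000044dc2297433ac405644b992e6d57e28e6d00000000097d6ca76518c93ab400000000258d9aea6401536b61015a1bd84f6e276f8000000004c6c667633b5c98e8000000004b0b09a591dea90c64985200382075137ac00000000568da30d480acedab000000001575a6cb78cd5518e36dee4395101589c54000000001af60dbe060ab76f50000000006c716693c33aa6ba9c5f59b65886d24e6900000000080ac4bed4194cb8a40000000035ec92dda08d5)))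 (.leaf (nat_lit 0x34d33a9808098896034ee00000000088b234af1268093a0000000001a6989266dbc59198c80924ae837e913cd00000000022b13127c8cc70eac000000000899a44df6ef20916400352024800d0922e0000000012178006600322449000000000c81e24d036f10621d628e9a075043a6c2800000000083ba4049212ea2d540000000040ce98631848832929b6608090855c32e800000000084ae32ab91670944000000000194948a5edbc3dac6c96b30b6d25f81012000000000757690da1d6b04ccc0000000009ad682d66561c951c4047267891d6995b40000000012e38d727071a258d0000000014b245547b778ce2eb958d9b48486da4047000000000985243993638b312c00000000d5cb20d659586)))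

noncomputable def tree : BT := t0

noncomputable def row : ℕ → ℕ := rowOf tree (nat_lit 3) (nat_lit 7) (nat_lit 273) (nat_lit 0x1ffffffffffffffffffffffffffffffffffffffffffffffffffffffffffffffffffff)

noncomputable def cols : List Col := [⟨nat_lit 18, nat_lit 1, [([nat_lit 120], nat_lit 0), ([nat_lit 18, nat_lit 18], nat_lit 0), ([nat_lit 188, nat_lit 120, nat_lit 86], nat_lit 0), ([nat_lit 35, nat_lit 120, nat_lit 35, nat_lit 256], nat_lit 0), ([nat_lit 256, nat_lit 205, nat_lit 35, nat_lit 120, nat_lit 205], nat_lit 0)]⟩,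
  ⟨nat_lit 35, nat_lit 1, [([nat_lit 137], nat_lit 0), ([nat_lit 35, nat_lit 35], nat_lit 0), ([nat_lit 120, nat_lit 35, nat_lit 256, nat_lit 18], nat_lit 0), ([nat_lit 120, nat_lit 205, nat_lit 18, nat_lit 256, nat_lit 205], nat_lit 0), ([nat_lit 222, nat_lit 35, nat_lit 222, nat_lit 35, nat_lit 222], nat_lit 0), ([nat_lit 256, nat_lit 86, nat_lit 35, nat_lit 103, nat_lit 137, nat_lit 188, nat_lit 205], nat_lit 0), ([nat_lit 18, nat_lit 222, nat_lit 256, nat_lit 120, nat_lit 256, nat_lit 222, nat_lit 120], nat_lit 0), ([nat_lit 239, nat_lit 35, nat_lit 256, nat_lit 239, nat_lit 256, nat_lit 35, nat_lit 239], nat_lit 0), ([nat_lit 256, nat_lit 18, nat_lit 35, nat_lit 120], nat_lit 0), ([nat_lit 256, nat_lit 35, nat_lit 256, nat_lit 35, nat_lit 256], nat_lit 0), ([nat_lit 205, nat_lit 239, nat_lit 103, nat_lit 239, nat_lit 137, nat_lit 239], nat_lit 0), ([nat_lit 256, nat_lit 239, nat_lit 256, nat_lit 35, nat_lit 239, nat_lit 35, nat_lit 239], nat_lit 0), ([nat_lit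 256, nat_lit 222, nat_lit 239, nat_lit 35, nat_lit 256, nat_lit 222, nat_lit 239], nat_lit 0)]⟩,
  ⟨nat_lit 86, nat_lit 0, [([nat_lit 188], nat_lit 0), ([nat_lit 86, nat_lit 86], nat_lit 0), ([nat_lit 18, nat_lit 188, nat_lit 120], nat_lit 0), ([nat_lit 35, nat_lit 222, nat_lit 137, nat_lit 188, nat_lit 35, nat_lit 222, nat_lit 137], nat_lit 0), ([nat_lit 256, nat_lit 103, nat_lit 188, nat_lit 205, nat_lit 256], nat_lit 0), ([nat_lit 137, nat_lit 86, nat_lit 35, nat_lit 86, nat_lit 137, nat_lit 86, nat_lit 35], nat_lit 0), ([nat_lit 256, nat_lit 239, nat_lit 35, nat_lit 188, nat_lit 222, nat_lit 18, nat_lit 222], nat_lit 0), ([nat_lit 103, nat_lit 222, nat_lit 205, nat_lit 188, nat_lit 239], nat_lit 0), ([nat_lit 35, nat_lit 86, nat_lit 137, nat_lit 86, nat_lit 35, nat_lit 86, nat_lit 137], nat_lit 0)]⟩,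
  ⟨nat_lit 103, nat_lit 1, [([nat_lit 205], nat_lit 0), ([nat_lit 103, nat_lit 103], nat_lit 0), ([nat_lit 137, nat_lit 188, nat_lit 205, nat_lit 35, nat_lit 256, nat_lit 86, nat_lit 35], nat_lit 0), ([nat_lit 256, nat_lit 103, nat_lit 256], nat_lit 0), ([nat_lit 222, nat_lit 205, nat_lit 188, nat_lit 239, nat_lit 86], nat_lit 0), ([nat_lit 188, nat_lit 205, nat_lit 256, nat_lit 86, nat_lit 256], nat_lit 0), ([nat_lit 239, nat_lit 137, nat_lit 239, nat_lit 35, nat_lit 205, nat_lit 239], nat_lit 0), ([nat_lit 256, nat_lit 222, nat_lit 35, nat_lit 103, nat_lit 256, nat_lit 222, nat_lit 35], nat_lit 0)]⟩,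
  ⟨nat_lit 120, nat_lit 1, [([nat_lit 18], nat_lit 0), ([nat_lit 35, nat_lit 256, nat_lit 18, nat_lit 35], nat_lit 0), ([nat_lit 137, nat_lit 256, nat_lit 120, nat_lit 137, nat_lit 256], nat_lit 0), ([nat_lit 256, nat_lit 222, nat_lit 120, nat_lit 35, nat_lit 18, nat_lit 222, nat_lit 256], nat_lit 0), ([nat_lit 239, nat_lit 35, nat_lit 239, nat_lit 18, nat_lit 256, nat_lit 120, nat_lit 137, nat_lit 239], nat_lit 0), ([nat_lit 86, nat_lit 18, nat_lit 188], nat_lit 0)]⟩,
  ⟨nat_lit 137, nat_lit 1, [([nat_lit 35], nat_lit 0), ([nat_lit 188, nat_lit 205, nat_lit 35, nat_lit 256, nat_lit 86, nat_lit 35, nat_lit 103], nat_lit 0), ([nat_lit 256, nat_lit 35, nat_lit 222, nat_lit 137, nat_lit 256, nat_lit 35, nat_lit 222], nat_lit 0), ([nat_lit 256, nat_lit 120, nat_lit 137, nat_lit 256, nat_lit 120], nat_lit 0), ([nat_lit 239, nat_lit 35, nat_lit 205, nat_lit 239, nat_lit 103, nat_lit 239], nat_lit 0), ([nat_lit 239, nat_lit 120, nat_lit 239, nat_lit 35, nat_lit 239,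 nat_lit 18, nat_lit 256, nat_lit 120], nat_lit 0)]⟩,
  ⟨nat_lit 188, nat_lit 0, [([nat_lit 86], nat_lit 0), ([nat_lit 120, nat_lit 86, nat_lit 18], nat_lit 0), ([nat_lit 222, nat_lit 18, nat_lit 222, nat_lit 86, nat_lit 256, nat_lit 239, nat_lit 35], nat_lit 0), ([nat_lit 239, nat_lit 86, nat_lit 103, nat_lit 222, nat_lit 205], nat_lit 0), ([nat_lit 205, nat_lit 256, nat_lit 86, nat_lit 256, nat_lit 103], nat_lit 0), ([nat_lit 35, nat_lit 222, nat_lit 137, nat_lit 86, nat_lit 35, nat_lit 222, nat_lit 137], nat_lit 0)]⟩,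
  ⟨nat_lit 205, nat_lit 1, [([nat_lit 103], nat_lit 0), ([nat_lit 188, nat_lit 239, nat_lit 86, nat_lit 103, nat_lit 222], nat_lit 0), ([nat_lit 18, nat_lit 256, nat_lit 205, nat_lit 35, nat_lit 120], nat_lit 0), ([nat_lit 35, nat_lit 120, nat_lit 205, nat_lit 18, nat_lit 256], nat_lit 0), ([nat_lit 239, nat_lit 103, nat_lit 239, nat_lit 137, nat_lit 239, nat_lit 35], nat_lit 0)]⟩,
  ⟨nat_lit 222, nat_lit 0, [([nat_lit 222], nat_lit 0), ([nat_lit 120, nat_lit 35, nat_lit 18, nat_lit 222, nat_lit 256, nat_lit 120, nat_lit 256], nat_lit 0), ([nat_lit 205, nat_lit 188, nat_lit 239, nat_lit 86, nat_lit 103], nat_lit 0), ([nat_lit 35, nat_lit 222, nat_lit 35, nat_lit 222, nat_lit 35], nat_lit 0), ([nat_lit 137, nat_lit 256, nat_lit 35, nat_lit 222, nat_lit 137, nat_lit 256, nat_lit 35], nat_lit 0), ([nat_lit 35, nat_lit 103, nat_lit 256, nat_lit 222, nat_lit 35, nat_lit 103, nat_lit 256], nat_lit 0), ([nat_lit 239, nat_lit 35, nat_lit 256, nat_lit 222, nat_lit 239,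 nat_lit 35, nat_lit 256], nat_lit 0), ([nat_lit 256, nat_lit 120, nat_lit 256, nat_lit 222, nat_lit 120, nat_lit 35, nat_lit 18], nat_lit 0), ([nat_lit 137, nat_lit 188, nat_lit 35, nat_lit 222, nat_lit 137, nat_lit 86, nat_lit 35], nat_lit 0)]⟩,
  ⟨nat_lit 239, nat_lit 1, [([nat_lit 239], nat_lit 0), ([nat_lit 86, nat_lit 103, nat_lit 222, nat_lit 205, nat_lit 188], nat_lit 0), ([nat_lit 35, nat_lit 188, nat_lit 222, nat_lit 18, nat_lit 222, nat_lit 86, nat_lit 256], nat_lit 0), ([nat_lit 35, nat_lit 256, nat_lit 222, nat_lit 239, nat_lit 35, nat_lit 256, nat_lit 222], nat_lit 0), ([nat_lit 120, nat_lit 239, nat_lit 35, nat_lit 239, nat_lit 18, nat_lit 256, nat_lit 120, nat_lit 137], nat_lit 0), ([nat_lit 18, nat_lit 256, nat_lit 120, nat_lit 137, nat_lit 239, nat_lit 120, nat_lit 239, nat_lit 35], nat_lit 0), ([nat_lit 103, nat_lit 239, nat_lit 137, nat_lit 239, nat_lit 35, nat_lit 205], nat_lit 0), ([nat_lit 137, nat_lit 239, nat_lit 35, nat_lit 205, nat_lit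 239, nat_lit 103], nat_lit 0), ([nat_lit 35, nat_lit 205, nat_lit 239, nat_lit 103, nat_lit 239, nat_lit 137], nat_lit 0), ([nat_lit 35, nat_lit 256, nat_lit 137, nat_lit 239, nat_lit 35, nat_lit 256, nat_lit 137], nat_lit 0), ([nat_lit 35, nat_lit 239, nat_lit 35, nat_lit 256, nat_lit 239, nat_lit 256, nat_lit 35], nat_lit 0)]⟩,
  ⟨nat_lit 256, nat_lit 1, [([nat_lit 256], nat_lit 0), ([nat_lit 18, nat_lit 35, nat_lit 120, nat_lit 35], nat_lit 0), ([nat_lit 103, nat_lit 256, nat_lit 103], nat_lit 0), ([nat_lit 35, nat_lit 256, nat_lit 35, nat_lit 256, nat_lit 35], nat_lit 0), ([nat_lit 35, nat_lit 222, nat_lit 137, nat_lit 256, nat_lit 35, nat_lit 222, nat_lit 137], nat_lit 0), ([nat_lit 103, nat_lit 188, nat_lit 205, nat_lit 256, nat_lit 86], nat_lit 0), ([nat_lit 35, nat_lit 239, nat_lit 35, nat_lit 239, nat_lit 35, nat_lit 256, nat_lit 239], nat_lit 0), ([nat_lit 222, nat_lit 35, nat_lit 103, nat_lit 256, nat_lit 222, nat_lit 35, nat_lit 103], nat_lit 0),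 ([nat_lit 239, nat_lit 35, nat_lit 188, nat_lit 222, nat_lit 18, nat_lit 222, nat_lit 86], nat_lit 0), ([nat_lit 120, nat_lit 137, nat_lit 239, nat_lit 120, nat_lit 239, nat_lit 35, nat_lit 239, nat_lit 18], nat_lit 0), ([nat_lit 120, nat_lit 137, nat_lit 256, nat_lit 120, nat_lit 137], nat_lit 0), ([nat_lit 86, nat_lit 256, nat_lit 103, nat_lit 188, nat_lit 205], nat_lit 0), ([nat_lit 239, nat_lit 256, nat_lit 35, nat_lit 239, nat_lit 35, nat_lit 239, nat_lit 35], nat_lit 0)]⟩]

noncomputable def erots : List (List ℕ × ℕ) := []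

noncomputable def gens : List ℕ := [nat_lit 18, nat_lit 35, nat_lit 86, nat_lit 103, nat_lit 120, nat_lit 137, nat_lit 188, nat_lit 205, nat_lit 222, nat_lit 239, nat_lit 256]

noncomputable def chk : ℕ → Bool := chkRow0 row (nat_lit 56) (nat_lit 0x3f) (nat_lit 0x1fc0) (nat_lit 13) (nat_lit 0xf) (nat_lit 0) (nat_lit 0x3f) (nat_lit 6) (nat_lit 0x1ff) (nat_lit 0x38000) [] cols gens

theorem b0 : allR chk 6 0 = true := by decide +kernel

noncomputable def T : CT := ⟨row, nat_lit 56, nat_lit 56, nat_lit 0x3f, nat_lit 0x1fc0, nat_lit 13, nat_lit 0xf, nat_lit 0, nat_lit 0x3f, nat_lit 6, nat_lit 0x1ff, nat_lit 0x38000, nat_lit 273, nat_lit 273, nat_lit 0, nat_lit 9, [], cols, erots, gens⟩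

theorem all : ∀ c < 56, chk c = true := fun c hc =>
  allR_glue (d := 6) (n := 1) (forall_lt_succ' forall_lt_zero' b0) c (lt_of_lt_of_le hc (by norm_num))

/-- the relators used -/
def R : List (List ℕ) := [[nat_lit 0, nat_lit 6],
  [nat_lit 1, nat_lit 7],
  [nat_lit 4, nat_lit 10],
  [nat_lit 5, nat_lit 11],
  [nat_lit 12, nat_lit 12],
  [nat_lit 13, nat_lit 13],
  [nat_lit 14, nat_lit 14],
  [nat_lit 4, nat_lit 5, nat_lit 12, nat_lit 11, nat_lit 10, nat_lit 13],
  [nat_lit 6, nat_lit 7, nat_lit 13, nat_lit 6, nat_lit 13, nat_lit 1, nat_lit 13, nat_lit 0, nat_lit 14],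
  [nat_lit 1, nat_lit 1, nat_lit 1],
  [nat_lit 14, nat_lit 1, nat_lit 14, nat_lit 1, nat_lit 14, nat_lit 1],
  [nat_lit 13, nat_lit 1, nat_lit 14, nat_lit 7, nat_lit 13, nat_lit 1, nat_lit 14, nat_lit 7],
  [nat_lit 13, nat_lit 14, nat_lit 1, nat_lit 13, nat_lit 1, nat_lit 13, nat_lit 1, nat_lit 14],
  [nat_lit 0, nat_lit 0, nat_lit 0],
  [nat_lit 0, nat_lit 1, nat_lit 6, nat_lit 1, nat_lit 14],
  [nat_lit 6, nat_lit 7, nat_lit 14, nat_lit 6, nat_lit 7, nat_lit 14],
  [nat_lit 5, nat_lit 5, nat_lit 5],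
  [nat_lit 5, nat_lit 14, nat_lit 5, nat_lit 14],
  [nat_lit 11, nat_lit 1, nat_lit 6, nat_lit 11, nat_lit 0, nat_lit 14],
  [nat_lit 11, nat_lit 13, nat_lit 5, nat_lit 13, nat_lit 7, nat_lit 13, nat_lit 1],
  [nat_lit 4, nat_lit 4, nat_lit 4],
  [nat_lit 4, nat_lit 0, nat_lit 10, nat_lit 6],
  [nat_lit 4, nat_lit 14, nat_lit 5, nat_lit 10, nat_lit 11, nat_lit 14],
  [nat_lit 1, nat_lit 12, nat_lit 1, nat_lit 12, nat_lit 1, nat_lit 12],
  [nat_lit 4, nat_lit 1, nat_lit 5, nat_lit 7, nat_lit 10, nat_lit 11, nat_lit 1, nat_lit 14],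
  [nat_lit 12, nat_lit 1, nat_lit 5, nat_lit 14, nat_lit 12, nat_lit 1, nat_lit 5, nat_lit 14],
  [nat_lit 12, nat_lit 6, nat_lit 1, nat_lit 0, nat_lit 12, nat_lit 14, nat_lit 6, nat_lit 14],
  [nat_lit 0, nat_lit 12, nat_lit 4, nat_lit 14, nat_lit 13, nat_lit 1, nat_lit 10, nat_lit 12],
  [nat_lit 1, nat_lit 12, nat_lit 7, nat_lit 4, nat_lit 1, nat_lit 12, nat_lit 7, nat_lit 10],
  [nat_lit 1, nat_lit 12, nat_lit 7, nat_lit 14, nat_lit 1, nat_lit 12, nat_lit 7, nat_lit 14],
  [nat_lit 1, nat_lit 14, nat_lit 12, nat_lit 13, nat_lit 1, nat_lit 14, nat_lit 12, nat_lit 13],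
  [nat_lit 1, nat_lit 4, nat_lit 7, nat_lit 4, nat_lit 1, nat_lit 4, nat_lit 7, nat_lit 4]]

theorem cert : Cert T (R.map fun r => (r, 0)) ([0, 1, 5, 6, 7, 11, 13, 14].map fun y => (y, 0)) 18 17 [0, 1, 4, 5, 6, 7, 10, 11, 12, 13, 14] :=
  ⟨by decide +kernel, ⟨[[(0, 0), (13, 0), (21, 1), (14, 0), (18, 4)], [(1, 0), (9, 0), (14, 1), (18, 1), (23, 0), (24, 6), (26, 2), (12, 4), (14, 3), (10, 1), (19, 6), (12, 6), (30, 0)], [(2, 0), (20, 0), (21, 0), (28, 3), (22, 0), (31, 1), (27, 2), (7, 0), (31, 3)], [(3, 0), (16, 0), (24, 2), (17, 0), (7, 1), (22, 2), (19, 2), (25, 2)], [(0, 1), (14, 2), (15, 0), (26, 6), (8, 3), (21, 3)], [(1, 1), (24, 3), (29, 2), (15, 1), (19, 4), (8, 1)], [(2, 1), (21, 2), (27, 6), (7, 4), (22, 3), (28, 7)], [(3, 1), (7, 3), (18, 3), (18, 0), (19, 0)], [(4, 0), (26, 0), (7, 2), (23, 1), (29, 1), (25, 0), (30, 2), (26, 4), (28, 5)], [(5, 0), (7, 5), (27, 4), (30, 3), (8, 2), (8, 6), (19, 1), (19, 3), (19, 5), (11, 0), (12, 3)], [(6, 0),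 (14, 4), (17, 1), (10, 0), (29, 3), (22, 1), (12, 1), (25, 3), (27, 3), (8, 8), (15, 2), (22, 5), (12, 7)]], [], by decide +kernel⟩, by decide +kernel, Or.inl ⟨rfl, all⟩⟩

theorem bound {Γ : Type*} [Group Γ] {x : ℕ → Γ} (hR : ∀ r ∈ R, ev x r = 1) {n : ℕ}
    (h : CardLe x [0, 1, 5, 6, 7, 11, 13, 14] n) : CardLe x [0, 1, 4, 5, 6, 7, 10, 11, 12, 13, 14] (56 * n) :=
  cert.cardLe rfl hR h

end Cfsg.Agent.H3.O8.Tc1
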