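import Cfsg.Agent.L0.CosetChain

/-! Generated coset table certificate. -/

set_option autoImplicit false
set_option maxRecDepth 100000

open Cfsg.Agent.L0

namespace Cfsg.Agent.H3.O8.Tc2

noncomputable def t0 : BT := .node (.node (.leaf (nat_lit 0x24409400000110000000000011c9531a004000000000000003c00736a12072000d0000649c0000000000042108a39147000000000001023524e8f4222144088000000c0000000000018c600160028000000000004398004a6a054a280080000831400000000000859483210e500000000000118520448d61220ec49000019640000000000010632044461000000000000619cc22a088483118430000418800000000000001c8519021000000000002844410656c03086001800010210000000000010c2000a610c00000000000c28800212e0040088010000000c000000000002004400800200000000000080110020000)) (.leaf (nat_lit 0x27f440d40001c58000000000001ad7463251e0000000000006c6800de6a5099c9033000049e40000000000000689bba2360000000000012f846af5a9245ec40c80001257000000000001ab6556c0064000000000004b5896b56a4490a0018000040bc000000000005044a0a9a540000000000013d357eb4b8e93ea4a4400012750000000000012b42058a8bc00000000000aa50da9c08ac9388017000048c8000000000008ed49ba1029000000000002ab1465916c82050005800019c9000000000001210639e684c0000000000088389454719cd299a74000041c0000000000004b4c9489028000000000001bf544e316c7)))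 (.node (.leaf (nat_lit 0x341286bc000102800000000000124e24a061440000000000107c991842e1d0d791d0000049500000000000040a112500150000000000019c923e50407749ce8a4000128e000000000001232205089b80000000000068c0ce6c089d9359027000045b40000000000049ac8f7214d00000000000386a2350da8632586430000106a00000000000138c26a64098000000000008db000a35b14946aa8b000084ac00000000000aba8834914b00000000000224d204ccd6541cc82a8000102600000000000108d34e46130000000000004c2c937b2e14918124e0000004c0000000000047bc81311f20000000000021a83096c225)) (.leaf (nat_lit 0x160dc43b000071ec00000000000506c81c149b0000000000023fb36b3c23747b050640002c3a00000000000133836b451680000000000040dc9bd63d58d8ba3fa000040d8000000000004e649bd9a5700000000000337926718b95)))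

noncomputable def tree : BT := t0

noncomputable def row : ℕ → ℕ := rowOf tree (nat_lit 3) (nat_lit 7) (nat_lit 242) (nat_lit 0x3ffffffffffffffffffffffffffffffffffffffffffffffffffffffffffff)

noncomputable def cols : List Col := [⟨nat_lit 17, nat_lit 1, [([nat_lit 107], nat_lit 0), ([nat_lit 17, nat_lit 17], nat_lit 0), ([nat_lit 227, nat_lit 182, nat_lit 32, nat_lit 107, nat_lit 182], nat_lit 0), ([nat_lit 32, nat_lit 107, nat_lit 32, nat_lit 227], nat_lit 0), ([nat_lit 227, nat_lit 107, nat_lit 122, nat_lit 212, nat_lit 107, nat_lit 212, nat_lit 32, nat_lit 212], nat_lit 0)]⟩,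
  ⟨nat_lit 32, nat_lit 1, [([nat_lit 122], nat_lit 0), ([nat_lit 32, nat_lit 32], nat_lit 0), ([nat_lit 107, nat_lit 32, nat_lit 227, nat_lit 17], nat_lit 0), ([nat_lit 107, nat_lit 182, nat_lit 17, nat_lit 227, nat_lit 182], nat_lit 0), ([nat_lit 227, nat_lit 17, nat_lit 32, nat_lit 107], nat_lit 0), ([nat_lit 182, nat_lit 212, nat_lit 92, nat_lit 212, nat_lit 122, nat_lit 212], nat_lit 0), ([nat_lit 227, nat_lit 212, nat_lit 227, nat_lit 32, nat_lit 212, nat_lit 32, nat_lit 212], nat_lit 0)]⟩,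
  ⟨nat_lit 92, nat_lit 0, [([nat_lit 182], nat_lit 0), ([nat_lit 92, nat_lit 92], nat_lit 0), ([nat_lit 212, nat_lit 122, nat_lit 212, nat_lit 32, nat_lit 182, nat_lit 212], nat_lit 0), ([nat_lit 227, nat_lit 92, nat_lit 227], nat_lit 0)]⟩,
  ⟨nat_lit 107, nat_lit 1, [([nat_lit 17], nat_lit 0), ([nat_lit 32, nat_lit 227, nat_lit 17, nat_lit 32], nat_lit 0), ([nat_lit 182, nat_lit 17, nat_lit 227, nat_lit 182, nat_lit 32], nat_lit 0), ([nat_lit 212, nat_lit 32, nat_lit 212, nat_lit 17, nat_lit 227, nat_lit 107, nat_lit 122, nat_lit 212], nat_lit 0), ([nat_lit 122, nat_lit 212, nat_lit 107, nat_lit 212, nat_lit 32, nat_lit 212, nat_lit 17, nat_lit 227], nat_lit 0)]⟩,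
  ⟨nat_lit 122, nat_lit 1, [([nat_lit 32], nat_lit 0), ([nat_lit 212, nat_lit 32, nat_lit 182, nat_lit 212, nat_lit 92, nat_lit 212], nat_lit 0), ([nat_lit 227, nat_lit 107, nat_lit 122, nat_lit 227, nat_lit 107], nat_lit 0), ([nat_lit 212, nat_lit 107, nat_lit 212, nat_lit 32, nat_lit 212, nat_lit 17, nat_lit 227, nat_lit 107], nat_lit 0)]⟩,
  ⟨nat_lit 182, nat_lit 0, [([nat_lit 92], nat_lit 0), ([nat_lit 32, nat_lit 107, nat_lit 182, nat_lit 17, nat_lit 227], nat_lit 0), ([nat_lit 17, nat_lit 227, nat_lit 182, nat_lit 32, nat_lit 107], nat_lit 0), ([nat_lit 212, nat_lit 92, nat_lit 212, nat_lit 122, nat_lit 212, nat_lit 32], nat_lit 0)]⟩,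
  ⟨nat_lit 212, nat_lit 1, [([nat_lit 212], nat_lit 0), ([nat_lit 92, nat_lit 212, nat_lit 122, nat_lit 212, nat_lit 32, nat_lit 182], nat_lit 0), ([nat_lit 122, nat_lit 212, nat_lit 32, nat_lit 182, nat_lit 212, nat_lit 92], nat_lit 0), ([nat_lit 32, nat_lit 182, nat_lit 212, nat_lit 92, nat_lit 212, nat_lit 122], nat_lit 0), ([nat_lit 32, nat_lit 227, nat_lit 122, nat_lit 212, nat_lit 32, nat_lit 227, nat_lit 122], nat_lit 0), ([nat_lit 32, nat_lit 212, nat_lit 32, nat_lit 227, nat_lit 212, nat_lit 227, nat_lit 32], nat_lit 0), ([nat_lit 107, nat_lit 212, nat_lit 32, nat_lit 212, nat_lit 17, nat_lit 227, nat_lit 107, nat_lit 122], nat_lit 0)]⟩,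
  ⟨nat_lit 227, nat_lit 1, [([nat_lit 227], nat_lit 0), ([nat_lit 92, nat_lit 227, nat_lit 92], nat_lit 0), ([nat_lit 122, nat_lit 212, nat_lit 32, nat_lit 227, nat_lit 122, nat_lit 212, nat_lit 32], nat_lit 0), ([nat_lit 107, nat_lit 122, nat_lit 212, nat_lit 107, nat_lit 212, nat_lit 32, nat_lit 212, nat_lit 17], nat_lit 0), ([nat_lit 17, nat_lit 32, nat_lit 107, nat_lit 32], nat_lit 0), ([nat_lit 32, nat_lit 227, nat_lit 32, nat_lit 227, nat_lit 32], nat_lit 0), ([nat_lit 107, nat_lit 122, nat_lit 227, nat_lit 107, nat_lit 122], nat_lit 0), ([nat_lit 182, nat_lit 32, nat_lit 107, nat_lit 182, nat_lit 17], nat_lit 0)]⟩]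

noncomputable def erots : List (List ℕ × ℕ) := []

noncomputable def gens : List ℕ := [nat_lit 17, nat_lit 32, nat_lit 92, nat_lit 107, nat_lit 122, nat_lit 182, nat_lit 212, nat_lit 227]

noncomputable def chk : ℕ → Bool := chkRow0 row (nat_lit 27) (nat_lit 0x1f) (nat_lit 0x7e0) (nat_lit 11) (nat_lit 0xf) (nat_lit 0) (nat_lit 0x1f) (nat_lit 5) (nat_lit 0x1ff) (nat_lit 0x1c000) [] cols gens

theorem b0 : allR chk 5 0 = true := by decide +kernel

noncomputable def T : CT := ⟨row, nat_lit 27, nat_lit 27, nat_lit 0x1f, nat_lit 0x7e0, nat_lit 11, nat_lit 0xf, nat_lit 0, nat_lit 0x1f, nat_lit 5, nat_lit 0x1ff, nat_lit 0x1c000, nat_lit 242, nat_lit 242, nat_lit 0, nat_lit 9, [], cols, erots, gens⟩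

theorem all : ∀ c < 27, chk c = true := fun c hc =>
  allR_glue (d := 5) (n := 1) (forall_lt_succ' forall_lt_zero' b0) c (lt_of_lt_of_le hc (by norm_num))

/-- the relators used -/
def R : List (List ℕ) := [[nat_lit 0, nat_lit 6],
  [nat_lit 1, nat_lit 7],
  [nat_lit 5, nat_lit 11],
  [nat_lit 13, nat_lit 13],
  [nat_lit 14, nat_lit 14],
  [nat_lit 6, nat_lit 7, nat_lit 13, nat_lit 6, nat_lit 13, nat_lit 1, nat_lit 13, nat_lit 0, nat_lit 14],
  [nat_lit 1, nat_lit 1, nat_lit 1],
  [nat_lit 14, nat_lit 1, nat_lit 14, nat_lit 1, nat_lit 14, nat_lit 1],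
  [nat_lit 13, nat_lit 1, nat_lit 14, nat_lit 7, nat_lit 13, nat_lit 1, nat_lit 14, nat_lit 7],
  [nat_lit 13, nat_lit 14, nat_lit 1, nat_lit 13, nat_lit 1, nat_lit 13, nat_lit 1, nat_lit 14],
  [nat_lit 0, nat_lit 0, nat_lit 0],
  [nat_lit 0, nat_lit 1, nat_lit 6, nat_lit 1, nat_lit 14],
  [nat_lit 6, nat_lit 7, nat_lit 14, nat_lit 6, nat_lit 7, nat_lit 14],
  [nat_lit 5, nat_lit 5, nat_lit 5],
  [nat_lit 5, nat_lit 14, nat_lit 5, nat_lit 14],
  [nat_lit 11, nat_lit 1, nat_lit 6, nat_lit 11, nat_lit 0, nat_lit 14],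
  [nat_lit 11, nat_lit 13, nat_lit 5, nat_lit 13, nat_lit 7, nat_lit 13, nat_lit 1]]

theorem cert : Cert T (R.map fun r => (r, 0)) ([0, 1, 6, 7, 13, 14].map fun y => (y, 0)) 17 15 [0, 1, 5, 6, 7, 11, 13, 14] :=
  ⟨by decide +kernel, ⟨[[(0, 0), (10, 0), (15, 4), (11, 0), (5, 7)], [(1, 0), (6, 0), (11, 1), (15, 1), (11, 3), (16, 6), (9, 6)], [(2, 0), (13, 0), (16, 2), (14, 0)], [(0, 1), (11, 2), (15, 2), (5, 3), (5, 0)], [(1, 1), (16, 4), (12, 1), (5, 1)], [(2, 1), (15, 0), (15, 3), (16, 0)], [(3, 0), (16, 1), (16, 3), (16, 5), (8, 0), (9, 3), (5, 2)], [(4, 0), (14, 1), (8, 2), (5, 8), (11, 4), (7, 0), (12, 2), (15, 5)]], [], by decide +kernel⟩, by decide +kernel, Or.inl ⟨rfl, all⟩⟩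

theorem bound {Γ : Type*} [Group Γ] {x : ℕ → Γ} (hR : ∀ r ∈ R, ev x r = 1) {n : ℕ}
    (h : CardLe x [0, 1, 6, 7, 13, 14] n) : CardLe x [0, 1, 5, 6, 7, 11, 13, 14] (27 * n) :=
  cert.cardLe rfl hR h

end Cfsg.Agent.H3.O8.Tc2
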