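import Cfsg.Agent.L0.CosetChain

/-! Generated coset table certificate. -/

set_option autoImplicit false
set_option maxRecDepth 100000

open Cfsg.Agent.L0

namespace Cfsg.Agent.H3.O8.Tc3

noncomputable def t0 : BT := .node (.leaf (nat_lit 0x4a76a90000000000000004b76e80000000000004164f86c6b13082a00000000000000094d192000000000000d50014ead002504c00000000000000002139800000000000325e35955920900380000000000000043222a800000000000219c22ab714934120000000000000004936940000000000004754a45562d0800c000000000000000c4a864000000000000d0882255c00140100000000000000010c904400000000000208988c8781009008000000000000001008018000000000001008010000)) (.leaf (nat_lit 0x2aea42800000000000000132905c0000000000022e9ba607b20b25c00000000000000025ca7d000000000000554a6bbb75))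

noncomputable def tree : BT := t0

noncomputable def row : ℕ → ℕ := rowOf tree (nat_lit 3) (nat_lit 7) (nat_lit 195) (nat_lit 0x7ffffffffffffffffffffffffffffffffffffffffffffffff)

noncomputable def cols : List Col := [⟨nat_lit 15, nat_lit 0, [([nat_lit 87], nat_lit 0), ([nat_lit 15, nat_lit 15], nat_lit 0), ([nat_lit 27, nat_lit 87, nat_lit 27, nat_lit 183], nat_lit 0)]⟩,
  ⟨nat_lit 27, nat_lit 1, [([nat_lit 99], nat_lit 0), ([nat_lit 27, nat_lit 27], nat_lit 0), ([nat_lit 87, nat_lit 27, nat_lit 183, nat_lit 15], nat_lit 0), ([nat_lit 183, nat_lit 27, nat_lit 183, nat_lit 27, nat_lit 183], nat_lit 0), ([nat_lit 171, nat_lit 27, nat_lit 183, nat_lit 171, nat_lit 183, nat_lit 27, nat_lit 171], nat_lit 0)]⟩,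
  ⟨nat_lit 87, nat_lit 0, [([nat_lit 15], nat_lit 0), ([nat_lit 27, nat_lit 183, nat_lit 15, nat_lit 27], nat_lit 0), ([nat_lit 171, nat_lit 27, nat_lit 171, nat_lit 15, nat_lit 183, nat_lit 87, nat_lit 99, nat_lit 171], nat_lit 0)]⟩,
  ⟨nat_lit 99, nat_lit 1, [([nat_lit 27], nat_lit 0), ([nat_lit 183, nat_lit 87, nat_lit 99, nat_lit 183, nat_lit 87], nat_lit 0), ([nat_lit 171, nat_lit 87, nat_lit 171, nat_lit 27, nat_lit 171, nat_lit 15, nat_lit 183, nat_lit 87], nat_lit 0)]⟩,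
  ⟨nat_lit 171, nat_lit 1, [([nat_lit 171], nat_lit 0), ([nat_lit 183, nat_lit 27, nat_lit 171, nat_lit 27, nat_lit 171, nat_lit 27, nat_lit 183], nat_lit 0), ([nat_lit 87, nat_lit 171, nat_lit 27, nat_lit 171, nat_lit 15, nat_lit 183, nat_lit 87, nat_lit 99], nat_lit 0)]⟩,
  ⟨nat_lit 183, nat_lit 1, [([nat_lit 183], nat_lit 0), ([nat_lit 27, nat_lit 183, nat_lit 27, nat_lit 183, nat_lit 27], nat_lit 0), ([nat_lit 27, nat_lit 171, nat_lit 27, nat_lit 171, nat_lit 27, nat_lit 183, nat_lit 171], nat_lit 0), ([nat_lit 87, nat_lit 99, nat_lit 171, nat_lit 87, nat_lit 171, nat_lit 27, nat_lit 171, nat_lit 15], nat_lit 0)]⟩]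

noncomputable def erots : List (List ℕ × ℕ) := []

noncomputable def gens : List ℕ := [nat_lit 15, nat_lit 27, nat_lit 87, nat_lit 99, nat_lit 171, nat_lit 183]

noncomputable def chk : ℕ → Bool := chkRow0 row (nat_lit 10) (nat_lit 0xf) (nat_lit 0x1f0) (nat_lit 9) (nat_lit 0x7) (nat_lit 0) (nat_lit 0xf) (nat_lit 4) (nat_lit 0xff) (nat_lit 0x7000) [] cols gens

theorem b0 : allR chk 4 0 = true := by decide +kernel

noncomputable def T : CT := ⟨row, nat_lit 10, nat_lit 10, nat_lit 0xf, nat_lit 0x1f0, nat_lit 9, nat_lit 0x7, nat_lit 0, nat_lit 0xf, nat_lit 4, nat_lit 0xff, nat_lit 0x7000, nat_lit 195, nat_lit 195, nat_lit 0, nat_lit 9, [], cols, erots, gens⟩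

theorem all : ∀ c < 10, chk c = true := fun c hc =>
  allR_glue (d := 4) (n := 1) (forall_lt_succ' forall_lt_zero' b0) c (lt_of_lt_of_le hc (by norm_num))

/-- the relators used -/
def R : List (List ℕ) := [[nat_lit 0, nat_lit 6],
  [nat_lit 1, nat_lit 7],
  [nat_lit 13, nat_lit 13],
  [nat_lit 14, nat_lit 14],
  [nat_lit 6, nat_lit 7, nat_lit 13, nat_lit 6, nat_lit 13, nat_lit 1, nat_lit 13, nat_lit 0, nat_lit 14],
  [nat_lit 1, nat_lit 1, nat_lit 1],
  [nat_lit 14, nat_lit 1, nat_lit 14, nat_lit 1, nat_lit 14, nat_lit 1],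
  [nat_lit 13, nat_lit 14, nat_lit 1, nat_lit 13, nat_lit 1, nat_lit 13, nat_lit 1, nat_lit 14],
  [nat_lit 0, nat_lit 0, nat_lit 0],
  [nat_lit 0, nat_lit 1, nat_lit 6, nat_lit 1, nat_lit 14],
  [nat_lit 6, nat_lit 7, nat_lit 14, nat_lit 6, nat_lit 7, nat_lit 14]]

theorem cert : Cert T (R.map fun r => (r, 0)) ([1, 7, 13, 14].map fun y => (y, 0)) 15 12 [0, 1, 6, 7, 13, 14] :=
  ⟨by decide +kernel, ⟨[[(0, 0), (8, 0), (9, 0)], [(1, 0), (5, 0), (9, 1), (6, 1), (7, 4)], [(0, 1), (9, 2), (4, 3)], [(1, 1), (10, 1), (4, 1)], [(2, 0), (7, 0), (4, 2)], [(3, 0), (6, 0), (7, 1), (4, 8)]], [], by decide +kernel⟩, by decide +kernel, Or.inl ⟨rfl, all⟩⟩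

theorem bound {Γ : Type*} [Group Γ] {x : ℕ → Γ} (hR : ∀ r ∈ R, ev x r = 1) {n : ℕ}
    (h : CardLe x [1, 7, 13, 14] n) : CardLe x [0, 1, 6, 7, 13, 14] (10 * n) :=
  cert.cardLe rfl hR h

end Cfsg.Agent.H3.O8.Tc3
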