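import Cfsg.Agent.L0.CosetChain

/-! Generated coset table certificate. -/

set_option autoImplicit false
set_option maxRecDepth 100000

open Cfsg.Agent.L0

namespace Cfsg.Agent.H3.O8.Tc4

noncomputable def t0 : BT := .leaf (nat_lit 0x7e1150000000000001680000000000002d800390491d14000000000000135000000000000136003903ad113000000000000147000000000000325003902448080000000000001360000000000002270029a15180700000000000013300000000000019200254168c060000000000001120000000000001240021810151100000000000000400000000000000300190020402000000000000081000000000000081000000)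

noncomputable def tree : BT := t0

noncomputable def row : ℕ → ℕ := rowOf tree (nat_lit 3) (nat_lit 7) (nat_lit 164) (nat_lit 0xfffffffffffffffffffffffffffffffffffffffff)

noncomputable def cols : List Col := [⟨nat_lit 24, nat_lit 1, [([nat_lit 24, nat_lit 24], nat_lit 0), ([nat_lit 84], nat_lit 0), ([nat_lit 144, nat_lit 24, nat_lit 144, nat_lit 24, nat_lit 154, nat_lit 144, nat_lit 154], nat_lit 0), ([nat_lit 144, nat_lit 24, nat_lit 154, nat_lit 144, nat_lit 154, nat_lit 24, nat_lit 144], nat_lit 0), ([nat_lit 154, nat_lit 144, nat_lit 154, nat_lit 24, nat_lit 144, nat_lit 24, nat_lit 144], nat_lit 0)]⟩,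
  ⟨nat_lit 84, nat_lit 1, [([nat_lit 24], nat_lit 0)]⟩,
  ⟨nat_lit 144, nat_lit 0, [([nat_lit 144], nat_lit 0)]⟩,
  ⟨nat_lit 154, nat_lit 1, [([nat_lit 154], nat_lit 0), ([nat_lit 84, nat_lit 144, nat_lit 24, nat_lit 154, nat_lit 84, nat_lit 144, nat_lit 24], nat_lit 0), ([nat_lit 24, nat_lit 154, nat_lit 24, nat_lit 154, nat_lit 24], nat_lit 0), ([nat_lit 24, nat_lit 144, nat_lit 24, nat_lit 144, nat_lit 24, nat_lit 154, nat_lit 144], nat_lit 0)]⟩]

noncomputable def erots : List (List ℕ × ℕ) := []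

noncomputable def gens : List ℕ := [nat_lit 24, nat_lit 84, nat_lit 144, nat_lit 154]

noncomputable def chk : ℕ → Bool := chkRow0 row (nat_lit 8) (nat_lit 0xf) (nat_lit 0x70) (nat_lit 7) (nat_lit 0x7) (nat_lit 0) (nat_lit 0xf) (nat_lit 4) (nat_lit 0xff) (nat_lit 0x3000) [] cols gens

theorem b0 : allR chk 3 0 = true := by decide +kernel

noncomputable def T : CT := ⟨row, nat_lit 8, nat_lit 8, nat_lit 0xf, nat_lit 0x70, nat_lit 7, nat_lit 0x7, nat_lit 0, nat_lit 0xf, nat_lit 4, nat_lit 0xff, nat_lit 0x3000, nat_lit 164, nat_lit 164, nat_lit 0, nat_lit 8, [], cols, erots, gens⟩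

theorem all : ∀ c < 8, chk c = true := fun c hc =>
  allR_glue (d := 3) (n := 1) (forall_lt_succ' forall_lt_zero' b0) c (lt_of_lt_of_le hc (by norm_num))

/-- the relators used -/
def R : List (List ℕ) := [[nat_lit 1, nat_lit 7],
  [nat_lit 13, nat_lit 13],
  [nat_lit 14, nat_lit 14],
  [nat_lit 1, nat_lit 1, nat_lit 1],
  [nat_lit 14, nat_lit 1, nat_lit 14, nat_lit 1, nat_lit 14, nat_lit 1],
  [nat_lit 13, nat_lit 1, nat_lit 14, nat_lit 7, nat_lit 13, nat_lit 1, nat_lit 14, nat_lit 7],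
  [nat_lit 13, nat_lit 14, nat_lit 1, nat_lit 13, nat_lit 1, nat_lit 13, nat_lit 1, nat_lit 14]]

theorem cert : Cert T (R.map fun r => (r, 0)) ([1, 7, 14].map fun y => (y, 0)) 14 10 [1, 7, 13, 14] :=
  ⟨by decide +kernel, ⟨[[(3, 0), (0, 0), (6, 2), (6, 4), (6, 6)], [(0, 1)], [(1, 0)], [(2, 0), (5, 2), (4, 0), (6, 1)]], [], by decide +kernel⟩, by decide +kernel, Or.inl ⟨rfl, all⟩⟩

theorem bound {Γ : Type*} [Group Γ] {x : ℕ → Γ} (hR : ∀ r ∈ R, ev x r = 1) {n : ℕ}
    (h : CardLe x [1, 7, 14] n) : CardLe x [1, 7, 13, 14] (8 * n) :=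
  cert.cardLe rfl hR h

end Cfsg.Agent.H3.O8.Tc4
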