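import Cfsg.Agent.H3.Mu.O8.Tab
import Cfsg.Agent.H3.LineCard

/-! Generated vectors and matrices. -/

set_option autoImplicit false
set_option maxRecDepth 100000

open Cfsg.Agent.L0

namespace Cfsg.Agent.H3.O8

open Vec

noncomputable def Vt0 : BT := .leaf (nat_lit 0x4dd8fb62a931568a3d8fcb79b2741ff7266313bf98dd718b172a2f9123445e9cd4c64c6a95a8e4fe2753ac35b6e5e86bd15b2ebbf2c7392b1b458eadca22e97cc5ee7793a6ef88bcf8e24eb16d54593e1d7ad6e3a76c4ff489329eda11b53a975cc41965f1729ad3df15518c7f47a2c936c8fd64b88d46a3)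

noncomputable def Vtree : BT := Vt0

noncomputable def V : ℕ → ℕ := rowOf Vtree (nat_lit 7) (nat_lit 127) (nat_lit 8) (nat_lit 0xff)

noncomputable def St0 : BT := .leaf (nat_lit 0xa017aafd08219364d9cc9954522e1f88e764b5c847daec4068559b96c8c2203966b5ac79379d246cc0093b608e3314da5cdcf410cc1c0fb116e136c6ba8961568a4542813374b25e329e2aa70d42b7bd51405f5a51bccc10f30f72bb1605e9f9edbad29df95be3b29b)

noncomputable def Stree : BT := St0

noncomputable def S : ℕ → ℕ := rowOf Stree (nat_lit 7) (nat_lit 127) (nat_lit 7) (nat_lit 0x7f)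

/-- the format -/
abbrev P : Fm := ⟨2, 1, 1, 8⟩

def Cs : List (List ℕ) := [[nat_lit 0x16, nat_lit 0xb9, nat_lit 0x4, nat_lit 0xb3, nat_lit 0x7, nat_lit 0x37, nat_lit 0xec, nat_lit 0x3b],
  [nat_lit 0x1, nat_lit 0x2, nat_lit 0xcf, nat_lit 0x87, nat_lit 0x9f, nat_lit 0xaf, nat_lit 0x4, nat_lit 0xf],
  [nat_lit 0x3b, nat_lit 0x38, nat_lit 0xf5, nat_lit 0xf9, nat_lit 0xe1, nat_lit 0xeb, nat_lit 0x40, nat_lit 0x4b],
  [nat_lit 0x1, nat_lit 0xe1, nat_lit 0xe7, nat_lit 0x86, nat_lit 0xf3, nat_lit 0xae, nat_lit 0x2d, nat_lit 0xed],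
  [nat_lit 0x78, nat_lit 0x60, nat_lit 0x66, nat_lit 0x8, nat_lit 0x69, nat_lit 0x3b, nat_lit 0x40, nat_lit 0xf9],
  [nat_lit 0x1, nat_lit 0xea, nat_lit 0xc3, nat_lit 0xcf, nat_lit 0x3f, nat_lit 0xf, nat_lit 0x6f, nat_lit 0x68]]

def CU : List ℕ := [nat_lit 0xa3, nat_lit 0x46, nat_lit 0x8d, nat_lit 0xb8, nat_lit 0x64, nat_lit 0xfd, nat_lit 0xc9, nat_lit 0x11]

def CW : List ℕ := [nat_lit 0x6c, nat_lit 0x46, nat_lit 0xd8, nat_lit 0xcf, nat_lit 0xec, nat_lit 0x54, nat_lit 0x9c, nat_lit 0x7f]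

def CI : List ℕ := [nat_lit 0x1, nat_lit 0x2, nat_lit 0x4, nat_lit 0x8, nat_lit 0x10, nat_lit 0x20, nat_lit 0x40, nat_lit 0x80]

def Bs : List ℕ := [nat_lit 0, nat_lit 1, nat_lit 2, nat_lit 3, nat_lit 4, nat_lit 5, nat_lit 8, nat_lit 27]

def Ss : List (List ℕ) := [[nat_lit 0x1, nat_lit 0x2, nat_lit 0x4, nat_lit 0x8, nat_lit 0x10, nat_lit 0x20, nat_lit 0x40, nat_lit 0x80]]

noncomputable def E : List ℕ → ℕ → ℕ → Bool := xE1

noncomputable def ok : ℕ → Bool := okL P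

noncomputable def vchkf : ℕ → Bool := rowChk ok E Cs [nat_lit 0, nat_lit 1, nat_lit 2, nat_lit 3, nat_lit 4, nat_lit 5] V T (nat_lit 120)

noncomputable def schkf : ℕ → Bool := sortB V S (nat_lit 120)

theorem vchkb0 : allR vchkf 7 0 = true := by decide +kernel
theorem schkb0 : allR schkf 7 0 = true := by decide +kernel

theorem vchk : ∀ c < 120, vchkf c = true := fun c hc =>
  allR_glue (d := 7) (n := 1) (forall_lt_succ' forall_lt_zero' vchkb0) c (lt_of_lt_of_le hc (by norm_num))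

theorem schk : ∀ c < 120, schkf c = true := fun c hc =>
  allR_glue (d := 7) (n := 1) (forall_lt_succ' forall_lt_zero' schkb0) c (lt_of_lt_of_le hc (by norm_num))

theorem data : Vec.LineData P E Cs 6 120 T (nat_lit 92) Bs CU CI V :=
  ⟨S, CW, nat_lit 0xff, vchk, schk, by decide +kernel, by decide +kernel⟩

/-- the numbering of the coordinates -/
def e : Fin 4 ⊕ Fin 4 ≃ Fin P.n := finSumFinEquiv

/-- the matrices -/
noncomputable def M (i : ℕ) : Matrix (Fin 4 ⊕ Fin 4) (Fin 4 ⊕ Fin 4) (ZMod 2) := Vec.mat P e (1 : ZMod 2) (nthW Cs i)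

theorem cod : Vec.AllCod P e (1 : ZMod 2) Cs 6 CU CI :=
  ⟨by decide +kernel, by decide +kernel, by decide +kernel⟩

theorem snd {F : Type*} [Field F] {φ : ZMod 2 →+* F} (h : Emb φ 2 1 (1 : ZMod 2)) :
    Vec.SoundL P e (φ (1 : ZMod 2)) ⊤ E :=
  Vec.soundL_xE1 rfl (by exact_mod_cast h.char)

theorem model {F : Type*} [Field F] {φ : ZMod 2 →+* F} (h : Emb φ 2 1 (1 : ZMod 2))
    {G : Type*} [Group G] (ρ : G →* Matrix (Fin 4 ⊕ Fin 4) (Fin 4 ⊕ Fin 4) F) (hρ : Function.Injective ρ)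
    (hz : ∀ z ∈ Subgroup.center G, ∃ a : F, ρ z = a • 1) (hg : ∀ i < 6, ∃ x, ρ x = (M i).map φ) :
    ∃ K : Subgroup (G ⧸ Subgroup.center G), Model K 120 6 T (nat_lit 92 :: Bs) :=
  data.model' φ (by decide) (by decide) (by decide) h.indep (snd h) cod ρ hρ hz hg

theorem modelc.{u} {F : Type*} [Field F] {φ : ZMod 2 →+* F} (h : Emb φ 2 1 (1 : ZMod 2))
    {G : Type u} [Group G] [Finite G] (ρ : G →* Matrix (Fin 4 ⊕ Fin 4) (Fin 4 ⊕ Fin 4) F) (hg : ∀ i < 6, ∃ x, ρ x = (M i).map φ) {n : ℕ}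
    (hn : ∀ (H : Type u) [Group H], Model H 120 6 T (nat_lit 92 :: Bs) → Nat.card H = n) (hG : Nat.card G ≤ n) :
    Model G 120 6 T (nat_lit 92 :: Bs) :=
  data.model_card φ (by decide) (by decide) (by decide) h.indep (snd h) cod ρ hg hn hG

end Cfsg.Agent.H3.O8
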